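import Groth.Agent.Pic13.H948.ChartCoc
import Groth.Agent.Ega3A.PicEtSh
import Groth.Agent.FlatA.EtaleSections
import Groth.Prelude.Def_Mor2
import Mathlib.AlgebraicGeometry.Morphisms.FlatRank
import Mathlib.RingTheory.Flat.FaithfullyFlat.Algebra

/-!
# Étale-local triviality of unit 1- and 2-cocycles along a finite locally free cover

`f : X ⟶ S` cohomologically flat in degree zero (`H943.CF f`), `S` affine, `g : T' ⟶ T` finite locally
free and surjective.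
-/

set_option autoImplicit false
universe u

open CategoryTheory CategoryTheory.Limits AlgebraicGeometry TensorProduct
open Groth.Agent.Ega3A.PicEtSh (ECov)

namespace Groth.Agent.Pic13.H948.CechUnits

open Groth.Agent.Pic13.H948.Chart

/-- local charts of a finite locally free surjective morphism -/
theorem exists_chart {Y T : Scheme.{u}} (g : Y ⟶ T) (hg : Mor2.IsFinLocFree g) [Surjective g] (t : T) :
    ∃ (B : Type u) (_ : CommRing B) (j : Spec (.of B) ⟶ T) (D : Type u) (_ : CommRing D)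
      (_ : Algebra B D) (π : Spec (.of D) ⟶ Y), IsOpenImmersion j ∧ (∃ b, j b = t) ∧
      Module.Finite B D ∧ Module.Projective B D ∧ Module.FaithfullyFlat B D ∧
      IsPullback π (Spec.map (CommRingCat.ofHom (algebraMap B D))) g j := by
  obtain ⟨hg1, hg2, hg3⟩ := hg
  obtain ⟨_, ⟨U, hU, rfl⟩, htU, -⟩ :=
    T.isBasis_affineOpens.exists_subset_of_mem_open (Set.mem_univ t) isOpen_univ
  replace hU : IsAffineOpen U := hU
  let j : Spec Γ(T, U) ⟶ T := hU.fromSpec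
  let Z := pullback g j
  let s : Z ⟶ Spec Γ(T, U) := pullback.snd g j
  have hZ : IsAffine Z := isAffine_of_isAffineHom s
  let φ : Γ(T, U) ⟶ Γ(Z, ⊤) := (Scheme.ΓSpecIso Γ(T, U)).inv ≫ s.appTop
  have hφ : Spec.map φ = Z.isoSpec.inv ≫ s := by
    rw [← toSpec_inv s, Iso.eq_inv_comp]
    rfl
  have k1 : IsFinite (Spec.map φ) := by rw [hφ]; infer_instance
  have k2 : Flat (Spec.map φ) := by rw [hφ]; infer_instance
  have k3 : LocallyOfFinitePresentation (Spec.map φ) := by rw [hφ]; infer_instance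
  have k4 : Surjective (Spec.map φ) := by rw [hφ]; infer_instance
  let _ : Algebra Γ(T, U) Γ(Z, ⊤) := φ.hom.toAlgebra
  have m1 : Module.Finite Γ(T, U) Γ(Z, ⊤) := (IsFinite.SpecMap_iff φ).mp k1
  have m2 : Module.FaithfullyFlat Γ(T, U) Γ(Z, ⊤) :=
    (flat_and_surjective_SpecMap_iff φ).mp ⟨k2, k4⟩
  have m3 : Algebra.FinitePresentation Γ(T, U) Γ(Z, ⊤) :=
    (LocallyOfFinitePresentation.SpecMap_iff φ).mp k3
  have m4 : Module.FinitePresentation Γ(T, U) Γ(Z, ⊤) :=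
    Module.FinitePresentation.of_finite_of_finitePresentation _ _
  have m5 : Module.Projective Γ(T, U) Γ(Z, ⊤) := Module.Flat.projective_of_finitePresentation
  refine ⟨Γ(T, U), inferInstance, j, Γ(Z, ⊤), inferInstance, inferInstance,
    Z.isoSpec.inv ≫ pullback.fst g j, inferInstanceAs (IsOpenImmersion hU.fromSpec), ?_, m1, m5, m2, ?_⟩
  · have : t ∈ Set.range hU.fromSpec := by
      rw [IsAffineOpen.range_fromSpec]; exact htU
    exact this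
  · refine (IsPullback.of_hasPullback g j).of_iso Z.isoSpec (Iso.refl _) (Iso.refl _) (Iso.refl _)
      ?_ ?_ ?_ ?_
    · change pullback.fst g j ≫ 𝟙 _ = Z.isoSpec.hom ≫ Z.isoSpec.inv ≫ pullback.fst g j
      rw [Category.comp_id, Iso.hom_inv_id_assoc]
    · change s ≫ 𝟙 _ = Z.isoSpec.hom ≫ Spec.map φ
      rw [Category.comp_id, hφ, Iso.hom_inv_id_assoc]
    · rfl
    · rfl

variable {X S : Scheme.{u}} {f : X ⟶ S}

/-- étale neighbourhoods on which a smooth surjective algebra over a chart has a section -/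
theorem exists_nbhd {B : Type u} [CommRing B] {β : Spec (.of B) ⟶ S} {T : Over S}
    (j₀ : Over.mk β ⟶ T) (hj : IsOpenImmersion j₀.left) (P : Type u) [CommRing P] [Algebra B P]
    (hP : Algebra.Smooth B P) (hP' : Function.Surjective (PrimeSpectrum.comap (algebraMap B P)))
    (b : (Spec (.of B) : Scheme.{u})) :
    ∃ (V : Over S) (k : V ⟶ T) (v₀ : V ⟶ VW β P), Etale k.left ∧ IsAffine V.left ∧
      (∃ v, k.left v = j₀.left b) ∧ v₀ ≫ str β P ≫ j₀ = k := by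
  let p : Spec (.of P) ⟶ Spec (.of B) := Spec.map (CommRingCat.ofHom (algebraMap B P))
  have hp : Smooth p := by
    refine (HasRingHomProperty.Spec_iff (P := @Smooth)).mpr ?_
    exact RingHom.smooth_algebraMap.mpr hP
  obtain ⟨S', q, s', hq, hs', h, hh⟩ := FlatA.EtaleSections.exists_section p b (hP' b)
  obtain ⟨_, ⟨U, hU, rfl⟩, hsU, -⟩ :=
    S'.isBasis_affineOpens.exists_subset_of_mem_open (Set.mem_univ s') isOpen_univ
  replace hU : IsAffineOpen U := hU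
  have hs1 : s' ∈ Set.range hU.fromSpec := by rw [IsAffineOpen.range_fromSpec]; exact hsU
  obtain ⟨v, hv⟩ := hs1
  have hj' : IsOpenImmersion (j₀.left : Spec (.of B) ⟶ T.left) := hj
  refine ⟨Over.mk (hU.fromSpec ≫ q ≫ β), Over.homMk (hU.fromSpec ≫ q ≫ (j₀.left : Spec (.of B) ⟶ T.left))
    (by simp),
    Over.homMk (hU.fromSpec ≫ h) ?_, ?_, ?_, ⟨v, ?_⟩, ?_⟩
  · change (hU.fromSpec ≫ h) ≫ p ≫ β = hU.fromSpec ≫ q ≫ β
    rw [Category.assoc, ← hh, Category.assoc]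
  · change Etale (hU.fromSpec ≫ q ≫ (j₀.left : Spec (.of B) ⟶ T.left))
    infer_instance
  · exact inferInstanceAs (IsAffine (Spec Γ(S', U)))
  · change (hU.fromSpec ≫ q ≫ (j₀.left : Spec (.of B) ⟶ T.left)) v = j₀.left b
    rw [Scheme.Hom.comp_apply, Scheme.Hom.comp_apply, hv, hs']
  · apply Over.OverMorphism.ext
    change (hU.fromSpec ≫ h) ≫ p ≫ j₀.left = hU.fromSpec ≫ q ≫ j₀.left
    rw [← hh, Category.assoc, Category.assoc]

variable (hf : H943.CF f) {T T' : Over S} (g : T' ⟶ T) (hg : Mor2.IsFinLocFree g.left)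
  [Surjective g.left]

/-- data of a chart in `Over S` -/
theorem exists_chart_over (hg : Mor2.IsFinLocFree g.left) (t : T.left) :
    ∃ (B : Type u) (_ : CommRing B) (β : Spec (.of B) ⟶ S) (j₀ : Over.mk β ⟶ T) (D : Type u)
      (_ : CommRing D) (_ : Algebra B D) (π : Spec (.of D) ⟶ T'.left),
      IsOpenImmersion j₀.left ∧ (∃ b, j₀.left b = t) ∧
      Module.Finite B D ∧ Module.Projective B D ∧ Module.FaithfullyFlat B D ∧ IsChart g j₀ π := by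
  obtain ⟨B, iB, j, D, iD, iA, π, hj, ⟨b, hb⟩, h1, h2, h3, hD⟩ := exists_chart g.left hg t
  exact ⟨B, iB, j ≫ T.hom, Over.homMk j rfl, D, iD, iA, π, hj, ⟨b, hb⟩, h1, h2, h3, hD⟩

include hf hg in
/-- **unit 1-cocycles along a finite locally free cover are étale-locally coboundaries** (pointwise) -/
theorem local1
    (z : ∀ {V : Over S} (a b : V ⟶ T'), a ≫ g = b ≫ g → (R f V)ˣ)
    (nat : ∀ {V V' : Over S} (h : V' ⟶ V) (a b : V ⟶ T') (e : a ≫ g = b ≫ g)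
      (e' : (h ≫ a) ≫ g = (h ≫ b) ≫ g), un f h (z a b e) = z (h ≫ a) (h ≫ b) e')
    (coc : ∀ {V : Over S} (a b c : V ⟶ T') (e : a ≫ g = b ≫ g) (e' : b ≫ g = c ≫ g),
      z a b e * z b c e' = z a c (e.trans e')) (t : T.left) :
    ∃ (U : Over S) (k : U ⟶ T), Etale k.left ∧ IsAffine U.left ∧ (∃ v, k.left v = t) ∧
      ∃ y : ∀ {V : Over S} (v : V ⟶ U) (a : V ⟶ T'), v ≫ k = a ≫ g → (R f V)ˣ,
        (∀ {V V' : Over S} (h : V' ⟶ V) (v : V ⟶ U) (a : V ⟶ T')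
          (e : v ≫ k = a ≫ g) (e' : (h ≫ v) ≫ k = (h ≫ a) ≫ g),
          un f h (y v a e) = y (h ≫ v) (h ≫ a) e') ∧
        ∀ {V : Over S} (v : V ⟶ U) (a b : V ⟶ T') (ea : v ≫ k = a ≫ g) (eb : v ≫ k = b ≫ g),
          z a b (ea.symm.trans eb) = y v a ea * (y v b eb)⁻¹ := by
  obtain ⟨B, _, β, j₀, D, _, _, π, hj, ⟨b, rfl⟩, _, _, _, hD⟩ := exists_chart_over g hg t
  obtain ⟨P, _, _, hP, hP', y, hy1, hy2⟩ := affine1 hf hD z nat coc
  obtain ⟨U, k, v₀, h1, h2, h3, h4⟩ := exists_nbhd j₀ hj P hP hP' b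
  have e0 : ∀ {V : Over S} (v : V ⟶ U) (a : V ⟶ T'), v ≫ k = a ≫ g →
      (v ≫ v₀) ≫ str β P ≫ j₀ = a ≫ g := by
    intro V v a e
    rw [← e, ← h4, Category.assoc]
  have yc : ∀ {V : Over S} {v v' : V ⟶ VW β P} (_ : v = v') (a : V ⟶ T')
      (e : v ≫ str β P ≫ j₀ = a ≫ g) (e' : v' ≫ str β P ≫ j₀ = a ≫ g), y v a e = y v' a e' := by
    intro V v v' h a e e'
    subst h; rfl
  refine ⟨U, k, h1, h2, h3, fun {V} v a e => y (v ≫ v₀) a (e0 v a e), ?_, ?_⟩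
  · intro V V' h v a e e'
    exact (hy1 h (v ≫ v₀) a (e0 v a e) (by
      have := e0 (h ≫ v) (h ≫ a) e'; rwa [Category.assoc] at this)).trans
      (yc (Category.assoc _ _ _).symm _ _ _)
  · intro V v a b ea eb
    exact eq_mul_inv_of_mul_eq (hy2 (v ≫ v₀) a b (e0 v a ea) (e0 v b eb))

include hf hg in
/-- **unit 2-cocycles along a finite locally free cover are étale-locally coboundaries** (pointwise) -/
theorem local2
    (z : ∀ {V : Over S} (a b c : V ⟶ T'), a ≫ g = b ≫ g → b ≫ g = c ≫ g → (R f V)ˣ)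
    (nat : ∀ {V V' : Over S} (h : V' ⟶ V) (a b c : V ⟶ T') (e : a ≫ g = b ≫ g) (e₁ : b ≫ g = c ≫ g)
      (e' : (h ≫ a) ≫ g = (h ≫ b) ≫ g) (e₁' : (h ≫ b) ≫ g = (h ≫ c) ≫ g),
      un f h (z a b c e e₁) = z (h ≫ a) (h ≫ b) (h ≫ c) e' e₁')
    (coc : ∀ {V : Over S} (a b c d : V ⟶ T') (e : a ≫ g = b ≫ g) (e' : b ≫ g = c ≫ g)
      (e'' : c ≫ g = d ≫ g),
      z b c d e' e'' * z a b d e (e'.trans e'') = z a c d (e.trans e') e'' * z a b c e e')
    (t : T.left) :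
    ∃ (U : Over S) (k : U ⟶ T), Etale k.left ∧ IsAffine U.left ∧ (∃ v, k.left v = t) ∧
      ∃ y : ∀ {V : Over S} (v : V ⟶ U) (a b : V ⟶ T'), v ≫ k = a ≫ g → v ≫ k = b ≫ g → (R f V)ˣ,
        (∀ {V V' : Over S} (h : V' ⟶ V) (v : V ⟶ U) (a b : V ⟶ T')
          (ea : v ≫ k = a ≫ g) (eb : v ≫ k = b ≫ g) (ea' : (h ≫ v) ≫ k = (h ≫ a) ≫ g)
          (eb' : (h ≫ v) ≫ k = (h ≫ b) ≫ g),
          un f h (y v a b ea eb) = y (h ≫ v) (h ≫ a) (h ≫ b) ea' eb') ∧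
        ∀ {V : Over S} (v : V ⟶ U) (a b c : V ⟶ T') (ea : v ≫ k = a ≫ g) (eb : v ≫ k = b ≫ g)
          (ec : v ≫ k = c ≫ g),
          z a b c (ea.symm.trans eb) (eb.symm.trans ec) =
            y v b c eb ec * (y v a c ea ec)⁻¹ * y v a b ea eb := by
  obtain ⟨B, _, β, j₀, D, _, _, π, hj, ⟨b, rfl⟩, _, _, _, hD⟩ := exists_chart_over g hg t
  obtain ⟨P, _, _, hP, hP', y, hy1, hy2⟩ := affine2 hf hD z nat coc
  obtain ⟨U, k, v₀, h1, h2, h3, h4⟩ := exists_nbhd j₀ hj P hP hP' b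
  have e0 : ∀ {V : Over S} (v : V ⟶ U) (a : V ⟶ T'), v ≫ k = a ≫ g →
      (v ≫ v₀) ≫ str β P ≫ j₀ = a ≫ g := by
    intro V v a e
    rw [← e, ← h4, Category.assoc]
  have yc : ∀ {V : Over S} {v v' : V ⟶ VW β P} (_ : v = v') (a b : V ⟶ T')
      (ea : v ≫ str β P ≫ j₀ = a ≫ g) (eb : v ≫ str β P ≫ j₀ = b ≫ g)
      (ea' : v' ≫ str β P ≫ j₀ = a ≫ g) (eb' : v' ≫ str β P ≫ j₀ = b ≫ g),
      y v a b ea eb = y v' a b ea' eb' := by
    intro V v v' h a b ea eb ea' eb'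
    subst h; rfl
  refine ⟨U, k, h1, h2, h3, fun {V} v a b ea eb => y (v ≫ v₀) a b (e0 v a ea) (e0 v b eb), ?_, ?_⟩
  · intro V V' h v a b ea eb ea' eb'
    exact (hy1 h (v ≫ v₀) a b (e0 v a ea) (e0 v b eb)
      (by have := e0 (h ≫ v) (h ≫ a) ea'; rwa [Category.assoc] at this)
      (by have := e0 (h ≫ v) (h ≫ b) eb'; rwa [Category.assoc] at this)).trans
      (yc (Category.assoc _ _ _).symm _ _ _ _ _ _)
  · intro V v a b c ea eb ec
    have := hy2 (v ≫ v₀) a b c (e0 v a ea) (e0 v b eb) (e0 v c ec)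
    rw [eq_mul_inv_of_mul_eq this]
    exact mul_right_comm _ _ _

include hf hg in
/-- **Z1**: unit 1-cocycles along a finite locally free cover are étale-locally coboundaries -/
theorem Z1
    (z : ∀ {V : Over S} (a b : V ⟶ T'), a ≫ g = b ≫ g → (R f V)ˣ)
    (nat : ∀ {V V' : Over S} (h : V' ⟶ V) (a b : V ⟶ T') (e : a ≫ g = b ≫ g)
      (e' : (h ≫ a) ≫ g = (h ≫ b) ≫ g), un f h (z a b e) = z (h ≫ a) (h ≫ b) e')
    (coc : ∀ {V : Over S} (a b c : V ⟶ T') (e : a ≫ g = b ≫ g) (e' : b ≫ g = c ≫ g),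
      z a b e * z b c e' = z a c (e.trans e')) :
    ∃ 𝒰 : ECov T, (∀ i, IsAffine (𝒰.V i).left) ∧ ∀ i,
      ∃ y : ∀ {V : Over S} (v : V ⟶ 𝒰.V i) (a : V ⟶ T'), v ≫ 𝒰.j i = a ≫ g → (R f V)ˣ,
        (∀ {V V' : Over S} (h : V' ⟶ V) (v : V ⟶ 𝒰.V i) (a : V ⟶ T')
          (e : v ≫ 𝒰.j i = a ≫ g) (e' : (h ≫ v) ≫ 𝒰.j i = (h ≫ a) ≫ g),
          un f h (y v a e) = y (h ≫ v) (h ≫ a) e') ∧
        ∀ {V : Over S} (v : V ⟶ 𝒰.V i) (a b : V ⟶ T') (ea : v ≫ 𝒰.j i = a ≫ g)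
          (eb : v ≫ 𝒰.j i = b ≫ g), z a b (ea.symm.trans eb) = y v a ea * (y v b eb)⁻¹ := by
  choose U k h1 h2 h3 h4 using local1 hf g hg z nat coc
  exact ⟨⟨T.left, U, k, h1, fun t => ⟨t, h3 t⟩⟩, h2, h4⟩

include hf hg in
/-- **Z2**: unit 2-cocycles along a finite locally free cover are étale-locally coboundaries -/
theorem Z2
    (z : ∀ {V : Over S} (a b c : V ⟶ T'), a ≫ g = b ≫ g → b ≫ g = c ≫ g → (R f V)ˣ)
    (nat : ∀ {V V' : Over S} (h : V' ⟶ V) (a b c : V ⟶ T') (e : a ≫ g = b ≫ g) (e₁ : b ≫ g = c ≫ g)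
      (e' : (h ≫ a) ≫ g = (h ≫ b) ≫ g) (e₁' : (h ≫ b) ≫ g = (h ≫ c) ≫ g),
      un f h (z a b c e e₁) = z (h ≫ a) (h ≫ b) (h ≫ c) e' e₁')
    (coc : ∀ {V : Over S} (a b c d : V ⟶ T') (e : a ≫ g = b ≫ g) (e' : b ≫ g = c ≫ g)
      (e'' : c ≫ g = d ≫ g),
      z b c d e' e'' * z a b d e (e'.trans e'') = z a c d (e.trans e') e'' * z a b c e e') :
    ∃ 𝒰 : ECov T, (∀ i, IsAffine (𝒰.V i).left) ∧ ∀ i,
      ∃ y : ∀ {V : Over S} (v : V ⟶ 𝒰.V i) (a b : V ⟶ T'), v ≫ 𝒰.j i = a ≫ g → v ≫ 𝒰.j i = b ≫ g →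
          (R f V)ˣ,
        (∀ {V V' : Over S} (h : V' ⟶ V) (v : V ⟶ 𝒰.V i) (a b : V ⟶ T')
          (ea : v ≫ 𝒰.j i = a ≫ g) (eb : v ≫ 𝒰.j i = b ≫ g) (ea' : (h ≫ v) ≫ 𝒰.j i = (h ≫ a) ≫ g)
          (eb' : (h ≫ v) ≫ 𝒰.j i = (h ≫ b) ≫ g),
          un f h (y v a b ea eb) = y (h ≫ v) (h ≫ a) (h ≫ b) ea' eb') ∧
        ∀ {V : Over S} (v : V ⟶ 𝒰.V i) (a b c : V ⟶ T') (ea : v ≫ 𝒰.j i = a ≫ g)
          (eb : v ≫ 𝒰.j i = b ≫ g) (ec : v ≫ 𝒰.j i = c ≫ g),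
          z a b c (ea.symm.trans eb) (eb.symm.trans ec) =
            y v b c eb ec * (y v a c ea ec)⁻¹ * y v a b ea eb := by
  choose U k h1 h2 h3 h4 using local2 hf g hg z nat coc
  exact ⟨⟨T.left, U, k, h1, fun t => ⟨t, h3 t⟩⟩, h2, h4⟩

end Groth.Agent.Pic13.H948.CechUnits
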