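import Groth.Agent.Pic13.H948.CocSmooth
import Groth.Agent.Pic13.H943.CF
import Groth.Prelude.Def_Pic
import Mathlib.Algebra.Category.Ring.Constructions

/-!
# Charts: objects over `Spec B`, their rings of functions and the functions on `X_V`
-/

set_option autoImplicit false
universe u

open CategoryTheory CategoryTheory.Limits AlgebraicGeometry TensorProduct

namespace Groth.Agent.Pic13.H948.Chart

theorem toSpec_inv {Z : Scheme.{u}} {A : CommRingCat.{u}} (a : Z ⟶ Spec A) :
    Z.toSpecΓ ≫ Spec.map ((Scheme.ΓSpecIso A).inv ≫ a.appTop) = a := by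
  rw [Spec.map_comp, ← Category.assoc, ← Scheme.toSpecΓ_naturality, Category.assoc,
    toSpecΓ_SpecMap_ΓSpecIso_inv, Category.comp_id]

section Base

variable {S : Scheme.{u}} {B : Type u} [CommRing B] (β : Spec (.of B) ⟶ S)

/-- the spectrum of a `B`-algebra over `S` -/
noncomputable abbrev VW (W : Type u) [CommRing W] [Algebra B W] : Over S :=
  Over.mk (Spec.map (CommRingCat.ofHom (algebraMap B W)) ≫ β)

/-- the structure map -/
noncomputable def str (W : Type u) [CommRing W] [Algebra B W] : VW β W ⟶ Over.mk β :=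
  Over.homMk (Spec.map (CommRingCat.ofHom (algebraMap B W))) rfl

variable {W W' : Type u} [CommRing W] [Algebra B W] [CommRing W'] [Algebra B W']

/-- functoriality -/
noncomputable def vmap (φ : W →ₐ[B] W') : VW β W' ⟶ VW β W :=
  Over.homMk (Spec.map (CommRingCat.ofHom φ.toRingHom)) (by
    change Spec.map _ ≫ Spec.map _ ≫ β = Spec.map _ ≫ β
    rw [← Category.assoc, ← Spec.map_comp, ← CommRingCat.ofHom_comp]
    congr 3
    exact φ.comp_algebraMap)

theorem vmap_str (φ : W →ₐ[B] W') : vmap β φ ≫ str β W = str β W' := by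
  apply Over.OverMorphism.ext
  change Spec.map _ ≫ Spec.map _ = Spec.map _
  rw [← Spec.map_comp, ← CommRingCat.ofHom_comp]
  congr 2
  exact φ.comp_algebraMap

end Base

section Wv

variable {S : Scheme.{u}} {B : Type u} [CommRing B] {β : Spec (.of B) ⟶ S}

/-- global functions of an object over `Spec B`, as a `B`-algebra -/
def Wv {V : Over S} (_ : V ⟶ Over.mk β) : Type u := Γ(V.left, ⊤)

instance {V : Over S} (w : V ⟶ Over.mk β) : CommRing (Wv w) := inferInstanceAs (CommRing Γ(V.left, ⊤))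

noncomputable instance {V : Over S} (w : V ⟶ Over.mk β) : Algebra B (Wv w) :=
  RingHom.toAlgebra (((Scheme.ΓSpecIso (.of B)).inv ≫ w.left.appTop).hom : B →+* Γ(V.left, ⊤))

variable {V V' : Over S} (w : V ⟶ Over.mk β)

/-- the canonical map to the affine hull -/
noncomputable def can : V ⟶ VW β (Wv w) :=
  Over.homMk (V.left.toSpecΓ : V.left ⟶ Spec (.of (Wv w))) (by
    change V.left.toSpecΓ ≫ Spec.map ((Scheme.ΓSpecIso (.of B)).inv ≫ w.left.appTop) ≫ β = V.hom
    rw [← Category.assoc, toSpec_inv]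
    exact Over.w w)

/-- an `A`-valued point over `Spec B` -/
noncomputable def pt {A : Type u} [CommRing A] [Algebra B A] (a : V.left ⟶ Spec (.of A))
    (h : a ≫ Spec.map (CommRingCat.ofHom (algebraMap B A)) = w.left) : A →ₐ[B] Wv w :=
  { ((Scheme.ΓSpecIso (.of A)).inv ≫ a.appTop).hom with
    commutes' := fun b => by
      change ((CommRingCat.ofHom (algebraMap B A)) ≫ (Scheme.ΓSpecIso (.of A)).inv ≫ a.appTop).hom b =
        ((Scheme.ΓSpecIso (.of B)).inv ≫ w.left.appTop).hom b
      rw [← h, Scheme.Hom.comp_appTop, ← Category.assoc, Scheme.ΓSpecIso_inv_naturality,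
        Category.assoc] }

theorem toSpec_pt {A : Type u} [CommRing A] [Algebra B A] (a : V.left ⟶ Spec (.of A))
    (h : a ≫ Spec.map (CommRingCat.ofHom (algebraMap B A)) = w.left) :
    (V.left.toSpecΓ : V.left ⟶ Spec (.of (Wv w))) ≫ Spec.map (CommRingCat.ofHom (pt w a h).toRingHom) = a :=
  toSpec_inv a

theorem can_vmap_pt_left {A : Type u} [CommRing A] [Algebra B A] (a : V.left ⟶ Spec (.of A))
    (h : a ≫ Spec.map (CommRingCat.ofHom (algebraMap B A)) = w.left) :
    (can w ≫ vmap β (pt w a h)).left = a :=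
  toSpec_inv a

/-- restriction -/
noncomputable def res (h : V' ⟶ V) : Wv w →ₐ[B] Wv (h ≫ w) :=
  { h.left.appTop.hom with
    commutes' := fun b => by
      change ((Scheme.ΓSpecIso (.of B)).inv ≫ w.left.appTop ≫ h.left.appTop).hom b =
        ((Scheme.ΓSpecIso (.of B)).inv ≫ (h ≫ w).left.appTop).hom b
      rw [← Scheme.Hom.comp_appTop]
      rfl }

theorem can_res (h : V' ⟶ V) : can (h ≫ w) ≫ vmap β (res w h) = h ≫ can w := by
  apply Over.OverMorphism.ext
  exact (Scheme.toSpecΓ_naturality h.left).symm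

theorem res_pt (h : V' ⟶ V) {A : Type u} [CommRing A] [Algebra B A] (a : V.left ⟶ Spec (.of A))
    (ha : a ≫ Spec.map (CommRingCat.ofHom (algebraMap B A)) = w.left)
    (ha' : (h.left ≫ a) ≫ Spec.map (CommRingCat.ofHom (algebraMap B A)) = (h ≫ w).left) :
    (res w h).comp (pt w a ha) = pt (h ≫ w) (h.left ≫ a) ha' := by
  apply AlgHom.ext
  intro x
  change ((Scheme.ΓSpecIso (.of A)).inv ≫ a.appTop ≫ h.left.appTop).hom x =
    ((Scheme.ΓSpecIso (.of A)).inv ≫ (h.left ≫ a).appTop).hom x
  rw [Scheme.Hom.comp_appTop]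

end Wv

section Fun

variable {X S : Scheme.{u}} (f : X ⟶ S)

/-- functions on `X_V` -/
noncomputable abbrev R (V : Over S) : Type u := Γ(PicF.XT f V, ⊤)

/-- restriction of units -/
noncomputable def un {V' V : Over S} (h : V' ⟶ V) : (R f V)ˣ →* (R f V')ˣ :=
  Units.map ((PicF.XTmap f h).appTop.hom : R f V →* R f V')

theorem XTmap_snd {V V' : Over S} (h : V' ⟶ V) :
    PicF.XTmap f h ≫ pullback.snd f V.hom = pullback.snd f V'.hom ≫ h.left := by
  simp only [PicF.XTmap, pullback.map, pullback.lift_snd]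

theorem XTmap_fst {V V' : Over S} (h : V' ⟶ V) :
    PicF.XTmap f h ≫ pullback.fst f V.hom = pullback.fst f V'.hom := by
  simp only [PicF.XTmap, pullback.map, pullback.lift_fst, Category.comp_id]

theorem XTmap_comp {V V' V'' : Over S} (h : V'' ⟶ V') (k : V' ⟶ V) :
    PicF.XTmap f (h ≫ k) = PicF.XTmap f h ≫ PicF.XTmap f k := by
  apply pullback.hom_ext
  · rw [Category.assoc, XTmap_fst, XTmap_fst, XTmap_fst]
  · rw [Category.assoc, XTmap_snd, XTmap_snd, ← Category.assoc, XTmap_snd, Category.assoc,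
      Over.comp_left]

theorem un_comp {V V' V'' : Over S} (h : V'' ⟶ V') (k : V' ⟶ V) (x : (R f V)ˣ) :
    un f (h ≫ k) x = un f h (un f k x) := by
  apply Units.ext
  change (PicF.XTmap f (h ≫ k)).appTop.hom x.1 =
    (PicF.XTmap f h).appTop.hom ((PicF.XTmap f k).appTop.hom x.1)
  rw [XTmap_comp, Scheme.Hom.comp_appTop]
  rfl

end Fun

end Groth.Agent.Pic13.H948.Chart
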