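import Groth.Agent.Pic13.H948.ChartPts

/-!
# Functional unit cocycles over a chart become coboundaries over a smooth surjective algebra
-/

set_option autoImplicit false
universe u

open CategoryTheory CategoryTheory.Limits AlgebraicGeometry TensorProduct

namespace Groth.Agent.Pic13.H948.Chart

variable {X S : Scheme.{u}} {f : X ⟶ S} (hf : H943.CF f) {B : Type u} [CommRing B]
  {β : Spec (.of B) ⟶ S}
variable {T T' : Over S} {g : T' ⟶ T} {j₀ : Over.mk β ⟶ T}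
variable {D : Type u} [CommRing D] [Algebra B D] {πT : Spec (.of D) ⟶ T'.left}
  (hD : IsChart g j₀ πT) [Module.Finite B D] [Module.Projective B D] [Module.FaithfullyFlat B D]

include hf hD in
theorem affine1
    (z : ∀ {V : Over S} (a b : V ⟶ T'), a ≫ g = b ≫ g → (R f V)ˣ)
    (nat : ∀ {V V' : Over S} (h : V' ⟶ V) (a b : V ⟶ T') (e : a ≫ g = b ≫ g)
      (e' : (h ≫ a) ≫ g = (h ≫ b) ≫ g), un f h (z a b e) = z (h ≫ a) (h ≫ b) e')
    (coc : ∀ {V : Over S} (a b c : V ⟶ T') (e : a ≫ g = b ≫ g) (e' : b ≫ g = c ≫ g),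
      z a b e * z b c e' = z a c (e.trans e')) :
    ∃ (P : Type u) (_ : CommRing P) (_ : Algebra B P), Algebra.Smooth B P ∧
      Function.Surjective (PrimeSpectrum.comap (algebraMap B P)) ∧
      ∃ y : ∀ {V : Over S} (v : V ⟶ VW β P) (a : V ⟶ T'), v ≫ str β P ≫ j₀ = a ≫ g → (R f V)ˣ,
        (∀ {V V' : Over S} (h : V' ⟶ V) (v : V ⟶ VW β P) (a : V ⟶ T')
          (e : v ≫ str β P ≫ j₀ = a ≫ g) (e' : (h ≫ v) ≫ str β P ≫ j₀ = (h ≫ a) ≫ g),
          un f h (y v a e) = y (h ≫ v) (h ≫ a) e') ∧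
        ∀ {V : Over S} (v : V ⟶ VW β P) (a b : V ⟶ T') (ea : v ≫ str β P ≫ j₀ = a ≫ g)
          (eb : v ≫ str β P ≫ j₀ = b ≫ g), z a b (ea.symm.trans eb) * y v b eb = y v a ea := by
  obtain ⟨i1, i2⟩ := finProj_CB f (β := β) hf
  obtain ⟨P, _, _, h1, h2, y, hy1, hy2⟩ := CocSmooth.exists_smooth1 (B := B) (C := CB f β) (D := D)
    (fun {W} _ _ a b => (ulam hf W).symm (z (ofPt hD a) (ofPt hD b) (ofPt_eq hD a b)))
    (fun {W W'} _ _ _ _ φ a b => by
      apply (ulam hf W').injective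
      rw [← un_ulam, MulEquiv.apply_symm_apply, MulEquiv.apply_symm_apply,
        nat (vmap β φ) _ _ _ (by rw [vmap_ofPt, vmap_ofPt]; exact ofPt_eq hD _ _)]
      congr 1 <;> exact vmap_ofPt hD φ _)
    (fun {W} _ _ a b c => by
      rw [← map_mul, coc])
  have zc : ∀ {V : Over S} {a a' b b' : V ⟶ T'} (_ : a = a') (_ : b = b') (e : a ≫ g = b ≫ g)
      (e' : a' ≫ g = b' ≫ g), z a b e = z a' b' e' := by
    intro V a a' b b' h h' e e'
    subst h; subst h'; rfl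
  let Y : ∀ {V : Over S} (w : V ⟶ Over.mk β) (v : V ⟶ VW β P) (a : V ⟶ T') (_ : v ≫ str β P = w)
      (_ : a ≫ g = w ≫ j₀), (R f V)ˣ :=
    fun w v a h e => un f (can w) (ulam hf (Wv w) (y (pA w v h) (pD hD w a e)))
  have hY : ∀ {V V' : Over S} (k : V' ⟶ V) (w : V ⟶ Over.mk β) (v : V ⟶ VW β P) (a : V ⟶ T')
      (h : v ≫ str β P = w) (e : a ≫ g = w ≫ j₀) (h' : (k ≫ v) ≫ str β P = k ≫ w)
      (e' : (k ≫ a) ≫ g = (k ≫ w) ≫ j₀), un f k (Y w v a h e) =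
        Y (k ≫ w) (k ≫ v) (k ≫ a) h' e' := by
    intro V V' k w v a h e h' e'
    change un f k (un f (can w) (ulam hf (Wv w) (y (pA w v h) (pD hD w a e)))) =
      un f (can (k ≫ w)) (ulam hf (Wv (k ≫ w)) (y (pA (k ≫ w) (k ≫ v) h') (pD hD (k ≫ w) (k ≫ a) e')))
    rw [← un_comp, ← can_res, un_comp, un_ulam, hy1, res_pA w k v h h', res_pD hD w k a e e']
  have Yc : ∀ {V : Over S} {w w' : V ⟶ Over.mk β} (_ : w = w') (v : V ⟶ VW β P) (a : V ⟶ T')
      (h : v ≫ str β P = w) (e : a ≫ g = w ≫ j₀) (h' : v ≫ str β P = w') (e' : a ≫ g = w' ≫ j₀),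
      Y w v a h e = Y w' v a h' e' := by
    intro V w w' hw v a h e h' e'
    subst hw; rfl
  refine ⟨P, _, _, h1, h2, fun {V} v a e => Y (v ≫ str β P) v a rfl
    (by rw [← e, Category.assoc]), ?_, ?_⟩
  · intro V V' k v a e e'
    refine (hY k (v ≫ str β P) v a rfl (by rw [← e, Category.assoc]) (Category.assoc _ _ _)
      (by rw [Category.assoc, ← e, Category.assoc, Category.assoc])).trans (Yc (Category.assoc _ _ _).symm _ _ _ _ _ _)
  · intro V v a b ea eb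
    have ea' : a ≫ g = (v ≫ str β P) ≫ j₀ := by rw [← ea, Category.assoc]
    have eb' : b ≫ g = (v ≫ str β P) ≫ j₀ := by rw [← eb, Category.assoc]
    have key := hy2 (pA (v ≫ str β P) v rfl) (pD hD (v ≫ str β P) a ea') (pD hD (v ≫ str β P) b eb')
    have key2 := congrArg (fun t => un f (can (v ≫ str β P)) (ulam hf _ t)) key
    simp only [map_mul, MulEquiv.apply_symm_apply] at key2
    rw [nat (can (v ≫ str β P)) _ _ _ (by rw [can_ofPt, can_ofPt]; exact ea.symm.trans eb)] at key2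
    rw [zc (can_ofPt hD _ a ea') (can_ofPt hD _ b eb') _ (ea.symm.trans eb)] at key2
    exact key2

include hf hD in
theorem affine2
    (z : ∀ {V : Over S} (a b c : V ⟶ T'), a ≫ g = b ≫ g → b ≫ g = c ≫ g → (R f V)ˣ)
    (nat : ∀ {V V' : Over S} (h : V' ⟶ V) (a b c : V ⟶ T') (e : a ≫ g = b ≫ g) (e₁ : b ≫ g = c ≫ g)
      (e' : (h ≫ a) ≫ g = (h ≫ b) ≫ g) (e₁' : (h ≫ b) ≫ g = (h ≫ c) ≫ g),
      un f h (z a b c e e₁) = z (h ≫ a) (h ≫ b) (h ≫ c) e' e₁')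
    (coc : ∀ {V : Over S} (a b c d : V ⟶ T') (e : a ≫ g = b ≫ g) (e' : b ≫ g = c ≫ g)
      (e'' : c ≫ g = d ≫ g),
      z b c d e' e'' * z a b d e (e'.trans e'') = z a c d (e.trans e') e'' * z a b c e e') :
    ∃ (P : Type u) (_ : CommRing P) (_ : Algebra B P), Algebra.Smooth B P ∧
      Function.Surjective (PrimeSpectrum.comap (algebraMap B P)) ∧
      ∃ y : ∀ {V : Over S} (v : V ⟶ VW β P) (a b : V ⟶ T'), v ≫ str β P ≫ j₀ = a ≫ g →
          v ≫ str β P ≫ j₀ = b ≫ g → (R f V)ˣ,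
        (∀ {V V' : Over S} (h : V' ⟶ V) (v : V ⟶ VW β P) (a b : V ⟶ T')
          (ea : v ≫ str β P ≫ j₀ = a ≫ g) (eb : v ≫ str β P ≫ j₀ = b ≫ g)
          (ea' : (h ≫ v) ≫ str β P ≫ j₀ = (h ≫ a) ≫ g)
          (eb' : (h ≫ v) ≫ str β P ≫ j₀ = (h ≫ b) ≫ g),
          un f h (y v a b ea eb) = y (h ≫ v) (h ≫ a) (h ≫ b) ea' eb') ∧
        ∀ {V : Over S} (v : V ⟶ VW β P) (a b c : V ⟶ T') (ea : v ≫ str β P ≫ j₀ = a ≫ g)
          (eb : v ≫ str β P ≫ j₀ = b ≫ g) (ec : v ≫ str β P ≫ j₀ = c ≫ g),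
          z a b c (ea.symm.trans eb) (eb.symm.trans ec) * y v a c ea ec =
            y v b c eb ec * y v a b ea eb := by
  obtain ⟨i1, i2⟩ := finProj_CB f (β := β) hf
  obtain ⟨P, _, _, h1, h2, y, hy1, hy2⟩ := CocSmooth.exists_smooth2 (B := B) (C := CB f β) (D := D)
    (fun {W} _ _ a b c => (ulam hf W).symm (z (ofPt hD a) (ofPt hD b) (ofPt hD c) (ofPt_eq hD a b)
      (ofPt_eq hD b c)))
    (fun {W W'} _ _ _ _ φ a b c => by
      apply (ulam hf W').injective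
      rw [← un_ulam, MulEquiv.apply_symm_apply, MulEquiv.apply_symm_apply,
        nat (vmap β φ) _ _ _ _ _ (by rw [vmap_ofPt, vmap_ofPt]; exact ofPt_eq hD _ _)
          (by rw [vmap_ofPt, vmap_ofPt]; exact ofPt_eq hD _ _)]
      congr 1 <;> exact vmap_ofPt hD φ _)
    (fun {W} _ _ a b c d => by
      rw [← map_mul, ← map_mul, coc])
  have zc : ∀ {V : Over S} {a a' b b' c c' : V ⟶ T'} (_ : a = a') (_ : b = b') (_ : c = c')
      (e : a ≫ g = b ≫ g) (e₁ : b ≫ g = c ≫ g) (e' : a' ≫ g = b' ≫ g) (e₁' : b' ≫ g = c' ≫ g),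
      z a b c e e₁ = z a' b' c' e' e₁' := by
    intro V a a' b b' c c' h h' h'' e e₁ e' e₁'
    subst h; subst h'; subst h''; rfl
  let Y : ∀ {V : Over S} (w : V ⟶ Over.mk β) (v : V ⟶ VW β P) (a b : V ⟶ T') (_ : v ≫ str β P = w)
      (_ : a ≫ g = w ≫ j₀) (_ : b ≫ g = w ≫ j₀), (R f V)ˣ :=
    fun w v a b h e e₁ =>
      un f (can w) (ulam hf (Wv w) (y (pA w v h) (pD hD w a e) (pD hD w b e₁)))
  have hY : ∀ {V V' : Over S} (k : V' ⟶ V) (w : V ⟶ Over.mk β) (v : V ⟶ VW β P) (a b : V ⟶ T')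
      (h : v ≫ str β P = w) (e : a ≫ g = w ≫ j₀) (e₁ : b ≫ g = w ≫ j₀)
      (h' : (k ≫ v) ≫ str β P = k ≫ w)
      (e' : (k ≫ a) ≫ g = (k ≫ w) ≫ j₀) (e₁' : (k ≫ b) ≫ g = (k ≫ w) ≫ j₀),
      un f k (Y w v a b h e e₁) = Y (k ≫ w) (k ≫ v) (k ≫ a) (k ≫ b) h' e' e₁' := by
    intro V V' k w v a b h e e₁ h' e' e₁'
    change un f k (un f (can w) (ulam hf (Wv w) (y (pA w v h) (pD hD w a e) (pD hD w b e₁)))) =
      un f (can (k ≫ w)) (ulam hf (Wv (k ≫ w)) (y (pA (k ≫ w) (k ≫ v) h')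
        (pD hD (k ≫ w) (k ≫ a) e') (pD hD (k ≫ w) (k ≫ b) e₁')))
    rw [← un_comp, ← can_res, un_comp, un_ulam, hy1, res_pA w k v h h', res_pD hD w k a e e',
      res_pD hD w k b e₁ e₁']
  have Yc : ∀ {V : Over S} {w w' : V ⟶ Over.mk β} (_ : w = w') (v : V ⟶ VW β P) (a b : V ⟶ T')
      (h : v ≫ str β P = w) (e : a ≫ g = w ≫ j₀) (e₁ : b ≫ g = w ≫ j₀) (h' : v ≫ str β P = w')
      (e' : a ≫ g = w' ≫ j₀) (e₁' : b ≫ g = w' ≫ j₀),
      Y w v a b h e e₁ = Y w' v a b h' e' e₁' := by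
    intro V w w' hw v a b h e e₁ h' e' e₁'
    subst hw; rfl
  refine ⟨P, _, _, h1, h2, fun {V} v a b ea eb => Y (v ≫ str β P) v a b rfl
    (by rw [← ea, Category.assoc]) (by rw [← eb, Category.assoc]), ?_, ?_⟩
  · intro V V' k v a b ea eb ea' eb'
    refine (hY k (v ≫ str β P) v a b rfl (by rw [← ea, Category.assoc]) (by rw [← eb, Category.assoc])
      (Category.assoc _ _ _)
      (by rw [Category.assoc, ← ea, Category.assoc, Category.assoc])
      (by rw [Category.assoc, ← eb, Category.assoc, Category.assoc])).trans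
      (Yc (Category.assoc _ _ _).symm _ _ _ _ _ _ _ _ _)
  · intro V v a b c ea eb ec
    have ea' : a ≫ g = (v ≫ str β P) ≫ j₀ := by rw [← ea, Category.assoc]
    have eb' : b ≫ g = (v ≫ str β P) ≫ j₀ := by rw [← eb, Category.assoc]
    have ec' : c ≫ g = (v ≫ str β P) ≫ j₀ := by rw [← ec, Category.assoc]
    have key := hy2 (pA (v ≫ str β P) v rfl) (pD hD (v ≫ str β P) a ea') (pD hD (v ≫ str β P) b eb')
      (pD hD (v ≫ str β P) c ec')
    have key2 := congrArg (fun t => un f (can (v ≫ str β P)) (ulam hf _ t)) key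
    simp only [map_mul, MulEquiv.apply_symm_apply] at key2
    rw [nat (can (v ≫ str β P)) _ _ _ _ _ (by rw [can_ofPt, can_ofPt]; exact ea.symm.trans eb)
      (by rw [can_ofPt, can_ofPt]; exact eb.symm.trans ec)] at key2
    rw [zc (can_ofPt hD _ a ea') (can_ofPt hD _ b eb') (can_ofPt hD _ c ec') _ _
      (ea.symm.trans eb) (eb.symm.trans ec)] at key2
    exact key2

end Groth.Agent.Pic13.H948.Chart
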