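import Groth.Agent.Pic13.H948.Chart
import Mathlib.RingTheory.IsTensorProduct

/-!
# Functions on `X_V` for a morphism which is cohomologically flat in degree zero
-/

set_option autoImplicit false
universe u

open CategoryTheory CategoryTheory.Limits AlgebraicGeometry TensorProduct

namespace Groth.Agent.Pic13.H948.Chart

variable {X S : Scheme.{u}} (f : X ⟶ S) {B : Type u} [CommRing B] {β : Spec (.of B) ⟶ S}

/-- functions on `X_V` as a `B`-algebra -/
def RV {V : Over S} (_ : V ⟶ Over.mk β) : Type u := Γ(PicF.XT f V, ⊤)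

noncomputable instance {V : Over S} (w : V ⟶ Over.mk β) : CommRing (RV f w) :=
  inferInstanceAs (CommRing Γ(PicF.XT f V, ⊤))

noncomputable instance {V : Over S} (w : V ⟶ Over.mk β) : Algebra B (RV f w) :=
  RingHom.toAlgebra (((Scheme.ΓSpecIso (.of B)).inv ≫ w.left.appTop ≫
    (pullback.snd f V.hom).appTop).hom : B →+* Γ(PicF.XT f V, ⊤))

variable (β) in
/-- functions on `X_{Spec B}` -/
abbrev CB : Type u := RV f (𝟙 (Over.mk β))

/-- restriction from `X_{Spec B}` -/
noncomputable def iC {V : Over S} (w : V ⟶ Over.mk β) : CB f β →ₐ[B] RV f w :=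
  { (PicF.XTmap f w).appTop.hom with
    commutes' := fun b => by
      change ((Scheme.ΓSpecIso (.of B)).inv ≫ (𝟙 (Over.mk β) : Over.mk β ⟶ Over.mk β).left.appTop ≫
        (pullback.snd f (Over.mk β).hom).appTop ≫ (PicF.XTmap f w).appTop).hom b =
        ((Scheme.ΓSpecIso (.of B)).inv ≫ w.left.appTop ≫ (pullback.snd f V.hom).appTop).hom b
      rw [← Scheme.Hom.comp_appTop (PicF.XTmap f w), XTmap_snd, Scheme.Hom.comp_appTop, Over.id_left,
        Scheme.Hom.id_appTop]
      rfl }

variable (β) in
/-- pulling back functions -/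
noncomputable def iW (W : Type u) [CommRing W] [Algebra B W] : W →ₐ[B] RV f (str β W) :=
  { ((Scheme.ΓSpecIso (.of W)).inv ≫ (pullback.snd f (VW β W).hom).appTop).hom with
    commutes' := fun b => by
      change ((CommRingCat.ofHom (algebraMap B W)) ≫ (Scheme.ΓSpecIso (.of W)).inv ≫
        (pullback.snd f (VW β W).hom).appTop).hom b =
        ((Scheme.ΓSpecIso (.of B)).inv ≫ (str β W).left.appTop ≫
          (pullback.snd f (VW β W).hom).appTop).hom b
      rw [← Category.assoc, Scheme.ΓSpecIso_inv_naturality, Category.assoc]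
      rfl }

variable (β) in
/-- comparison map -/
noncomputable def lam (W : Type u) [CommRing W] [Algebra B W] : CB f β ⊗[B] W →ₐ[B] RV f (str β W) :=
  Algebra.TensorProduct.lift (iC f (str β W)) (iW f β W) (fun _ _ => Commute.all _ _)

theorem isPushout (hf : H943.CF f) (W : Type u) [CommRing W] [Algebra B W] :
    IsPushout (CommRingCat.ofHom (algebraMap B (CB f β))) (CommRingCat.ofHom (algebraMap B W))
      (CommRingCat.ofHom (iC f (str β W)).toRingHom) (CommRingCat.ofHom (iW f β W).toRingHom) := by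
  have p1 := hf.push (Over.mk β) (inferInstanceAs (IsAffine (Spec (.of B))))
  have p2 := hf.push (VW β W) (inferInstanceAs (IsAffine (Spec (.of W))))
  have h : IsPushout (pullback.snd f β).appTop (Spec.map (CommRingCat.ofHom (algebraMap B W))).appTop
      (PicF.XTmap f (str β W)).appTop (pullback.snd f (VW β W).hom).appTop := by
    refine IsPushout.of_top ?_ ?_ p1
    · have e1 : β.appTop ≫ (Spec.map (CommRingCat.ofHom (algebraMap B W))).appTop =
        (VW β W).hom.appTop := (Scheme.Hom.comp_appTop _ _).symm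
      have e2 : (pullback.fst f β).appTop ≫ (PicF.XTmap f (str β W)).appTop =
          (pullback.fst f (VW β W).hom).appTop := by
        rw [← Scheme.Hom.comp_appTop]
        exact congrArg _ (XTmap_fst f (str β W))
      change IsPushout f.appTop (β.appTop ≫ _) ((pullback.fst f β).appTop ≫ _) _
      rw [e1, e2]
      exact p2
    · rw [← Scheme.Hom.comp_appTop, ← Scheme.Hom.comp_appTop]
      exact congrArg _ (XTmap_snd f (str β W))
  refine h.of_iso (Scheme.ΓSpecIso (.of B)) (Iso.refl _) (Scheme.ΓSpecIso (.of W)) (Iso.refl _)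
    ?_ ?_ ?_ ?_
  · exact (Category.comp_id _).trans
      (Iso.hom_inv_id_assoc (Scheme.ΓSpecIso (.of B)) ((pullback.snd f β).appTop)).symm
  · exact Scheme.ΓSpecIso_naturality _
  · rfl
  · exact (Category.comp_id _).trans
      (Iso.hom_inv_id_assoc (Scheme.ΓSpecIso (.of W)) ((pullback.snd f (VW β W).hom).appTop)).symm

theorem lam_bijective (hf : H943.CF f) (W : Type u) [CommRing W] [Algebra B W] :
    Function.Bijective (lam f β W) := by
  have h1 := isPushout f (β := β) hf W
  have h0 := CommRingCat.isPushout_tensorProduct B (CB f β) W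
  let e := h0.isoIsPushout _ _ h1
  have he : CommRingCat.ofHom (lam f β W).toRingHom = e.hom := by
    apply h0.hom_ext
    · rw [IsPushout.inl_isoIsPushout_hom]
      ext x
      change lam f β W (x ⊗ₜ 1) = iC f (str β W) x
      simp [lam]
    · rw [IsPushout.inr_isoIsPushout_hom]
      ext x
      change lam f β W (1 ⊗ₜ x) = iW f β W x
      simp [lam]
  have : IsIso (CommRingCat.ofHom (lam f β W).toRingHom) := by rw [he]; infer_instance
  exact ConcreteCategory.bijective_of_isIso (CommRingCat.ofHom (lam f β W).toRingHom)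

variable {f} in
/-- comparison of units -/
noncomputable def ulam (hf : H943.CF f) (W : Type u) [CommRing W] [Algebra B W] :
    (CB f β ⊗[B] W)ˣ ≃* (R f (VW β W))ˣ :=
  Units.mapEquiv (MulEquiv.ofBijective (lam f β W : CB f β ⊗[B] W →* RV f (str β W))
    (lam_bijective f hf W))

theorem lam_nat {W W' : Type u} [CommRing W] [Algebra B W] [CommRing W'] [Algebra B W']
    (φ : W →ₐ[B] W') (x : CB f β ⊗[B] W) :
    (PicF.XTmap f (vmap β φ)).appTop.hom (lam f β W x) =
      lam f β W' (CocRing.mapC (CB f β) φ x) := by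
  let F : RV f (str β W) →+* RV f (str β W') := (PicF.XTmap f (vmap β φ)).appTop.hom
  change F (lam f β W x) = _
  have hC : ∀ c, F (iC f (str β W) c) = iC f (str β W') c := by
    intro c
    change ((PicF.XTmap f (str β W)).appTop ≫ (PicF.XTmap f (vmap β φ)).appTop).hom c =
      (PicF.XTmap f (str β W')).appTop.hom c
    rw [← Scheme.Hom.comp_appTop, ← XTmap_comp, vmap_str]
  have hW : ∀ t, F (iW f β W t) = iW f β W' (φ t) := by
    intro t
    change ((Scheme.ΓSpecIso (.of W)).inv ≫ (pullback.snd f (VW β W).hom).appTop ≫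
      (PicF.XTmap f (vmap β φ)).appTop).hom t =
      (CommRingCat.ofHom φ.toRingHom ≫ (Scheme.ΓSpecIso (.of W')).inv ≫
        (pullback.snd f (VW β W').hom).appTop).hom t
    rw [← Scheme.Hom.comp_appTop, XTmap_snd, Scheme.Hom.comp_appTop, ← Category.assoc,
      ← Category.assoc, Scheme.ΓSpecIso_inv_naturality]
    rfl
  induction x using TensorProduct.induction_on with
  | zero => simp only [map_zero]
  | add x y hx hy => simp only [map_add, hx, hy]
  | tmul c t => simp only [lam, Algebra.TensorProduct.lift_tmul, map_mul, hC, hW,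
      Algebra.TensorProduct.map_tmul, AlgHom.id_apply]

theorem un_ulam (hf : H943.CF f) {W W' : Type u} [CommRing W] [Algebra B W] [CommRing W']
    [Algebra B W'] (φ : W →ₐ[B] W') (x : (CB f β ⊗[B] W)ˣ) :
    un f (vmap β φ) (ulam hf W x) = ulam hf W' (CocSmooth.umC (CB f β) φ x) :=
  Units.ext (lam_nat f φ x.1)

theorem finProj_CB (hf : H943.CF f) : Module.Finite B (CB f β) ∧ Module.Projective B (CB f β) := by
  have p1 := hf.push (Over.mk β) (inferInstanceAs (IsAffine (Spec (.of B))))
  let _ : Algebra Γ(S, ⊤) Γ(X, ⊤) := f.appTop.hom.toAlgebra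
  let _ : Algebra Γ(S, ⊤) B := ((β.appTop ≫ (Scheme.ΓSpecIso (.of B)).hom).hom : Γ(S, ⊤) →+* B).toAlgebra
  have : Module.Finite Γ(S, ⊤) Γ(X, ⊤) := hf.fin
  have : Module.Projective Γ(S, ⊤) Γ(X, ⊤) := hf.proj
  have h0 := CommRingCat.isPushout_tensorProduct Γ(S, ⊤) B Γ(X, ⊤)
  have h1 : IsPushout (CommRingCat.ofHom (algebraMap Γ(S, ⊤) B))
      (CommRingCat.ofHom (algebraMap Γ(S, ⊤) Γ(X, ⊤)))
      (CommRingCat.ofHom (algebraMap B (CB f β)))
      (show CommRingCat.of Γ(X, ⊤) ⟶ CommRingCat.of (CB f β) from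
        CommRingCat.ofHom (pullback.fst f β).appTop.hom) := by
    refine p1.flip.of_iso (Iso.refl _) (Scheme.ΓSpecIso (.of B)) (Iso.refl _) (Iso.refl _)
      ?_ ?_ ?_ ?_
    · rfl
    · rfl
    · exact (Category.comp_id _).trans
        (Iso.hom_inv_id_assoc (Scheme.ΓSpecIso (.of B)) ((pullback.snd f β).appTop)).symm
    · rfl
  let e := h0.isoIsPushout _ _ h1
  let E : B ⊗[Γ(S, ⊤)] Γ(X, ⊤) ≃ₐ[B] CB f β :=
    AlgEquiv.ofRingEquiv (f := e.commRingCatIsoToRingEquiv) (fun r => by
      have := congrArg (fun g => (CommRingCat.Hom.hom g) r)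
        (IsPushout.inl_isoIsPushout_hom _ _ h0 h1)
      exact this)
  exact ⟨Module.Finite.equiv E.toLinearEquiv, Module.Projective.of_equiv E.toLinearEquiv⟩

end Groth.Agent.Pic13.H948.Chart
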