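import Groth.Agent.Pic13.H948.ChartFun

/-!
# Points of a finite locally free cover over a chart, and the coboundary theorem over a chart
-/

set_option autoImplicit false
universe u

open CategoryTheory CategoryTheory.Limits AlgebraicGeometry TensorProduct

namespace Groth.Agent.Pic13.H948.Chart

section Points

variable {S : Scheme.{u}} {B : Type u} [CommRing B] {β : Spec (.of B) ⟶ S}
variable {T T' : Over S} {g : T' ⟶ T} {j₀ : Over.mk β ⟶ T}
variable {D : Type u} [CommRing D] [Algebra B D] {πT : Spec (.of D) ⟶ T'.left}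

/-- `Spec D` is the pull-back of the cover `g` to the chart `j₀` -/
abbrev IsChart (g : T' ⟶ T) (j₀ : Over.mk β ⟶ T) (πT : Spec (.of D) ⟶ T'.left) : Prop :=
  IsPullback πT (Spec.map (CommRingCat.ofHom (algebraMap B D))) g.left j₀.left

variable (hD : IsChart g j₀ πT)

include hD in
set_option linter.unusedSectionVars false in
theorem map_alg {W : Type u} [CommRing W] [Algebra B W] (a : D →ₐ[B] W) :
    Spec.map (CommRingCat.ofHom a.toRingHom) ≫ Spec.map (CommRingCat.ofHom (algebraMap B D)) =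
      Spec.map (CommRingCat.ofHom (algebraMap B W)) := by
  rw [← Spec.map_comp, ← CommRingCat.ofHom_comp]
  congr 2
  exact a.comp_algebraMap

/-- the morphism to the cover defined by a point of `D` -/
noncomputable def ofPt {W : Type u} [CommRing W] [Algebra B W] (a : D →ₐ[B] W) : VW β W ⟶ T' :=
  Over.homMk (Spec.map (CommRingCat.ofHom a.toRingHom) ≫ πT) (by
    change (Spec.map (CommRingCat.ofHom a.toRingHom) ≫ πT) ≫ T'.hom =
      Spec.map (CommRingCat.ofHom (algebraMap B W)) ≫ β
    rw [← Over.w g, Category.assoc, hD.w_assoc, ← Category.assoc, map_alg hD]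
    congr 1
    exact Over.w j₀)

theorem ofPt_comp {W : Type u} [CommRing W] [Algebra B W] (a : D →ₐ[B] W) :
    ofPt hD a ≫ g = str β W ≫ j₀ := by
  apply Over.OverMorphism.ext
  change (Spec.map (CommRingCat.ofHom a.toRingHom) ≫ πT) ≫ g.left =
    Spec.map (CommRingCat.ofHom (algebraMap B W)) ≫ j₀.left
  rw [Category.assoc, hD.w, ← Category.assoc, map_alg hD]

theorem ofPt_eq {W : Type u} [CommRing W] [Algebra B W] (a b : D →ₐ[B] W) :
    ofPt hD a ≫ g = ofPt hD b ≫ g := by rw [ofPt_comp, ofPt_comp]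

theorem vmap_ofPt {W W' : Type u} [CommRing W] [Algebra B W] [CommRing W'] [Algebra B W']
    (φ : W →ₐ[B] W') (a : D →ₐ[B] W) : vmap β φ ≫ ofPt hD a = ofPt hD (φ.comp a) := by
  apply Over.OverMorphism.ext
  change Spec.map (CommRingCat.ofHom φ.toRingHom) ≫ Spec.map (CommRingCat.ofHom a.toRingHom) ≫ πT =
    Spec.map (CommRingCat.ofHom (φ.comp a).toRingHom) ≫ πT
  rw [← Category.assoc, ← Spec.map_comp, ← CommRingCat.ofHom_comp]
  rfl

variable {V V' : Over S} (w : V ⟶ Over.mk β)

/-- the point defined by a morphism to the cover -/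
noncomputable def pD (a : V ⟶ T') (h : a ≫ g = w ≫ j₀) : D →ₐ[B] Wv w :=
  pt w (hD.lift a.left w.left (by simpa using congrArg (fun k => k.left) h)) (hD.lift_snd _ _ _)

theorem can_ofPt (a : V ⟶ T') (h : a ≫ g = w ≫ j₀) : can w ≫ ofPt hD (pD hD w a h) = a := by
  apply Over.OverMorphism.ext
  change (V.left.toSpecΓ : V.left ⟶ Spec (.of (Wv w))) ≫
    Spec.map (CommRingCat.ofHom (pD hD w a h).toRingHom) ≫ πT = a.left
  rw [← Category.assoc, pD, toSpec_pt, hD.lift_fst]

theorem res_pD (k : V' ⟶ V) (a : V ⟶ T') (h : a ≫ g = w ≫ j₀)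
    (h' : (k ≫ a) ≫ g = (k ≫ w) ≫ j₀) :
    (res w k).comp (pD hD w a h) = pD hD (k ≫ w) (k ≫ a) h' := by
  have e : k.left ≫ hD.lift a.left w.left (by simpa using congrArg (fun k => k.left) h) =
      hD.lift (k ≫ a).left (k ≫ w).left (by simpa using congrArg (fun k => k.left) h') := by
    apply hD.hom_ext
    · rw [Category.assoc, hD.lift_fst, hD.lift_fst, Over.comp_left]
    · rw [Category.assoc, hD.lift_snd, hD.lift_snd, Over.comp_left]
  unfold pD
  rw [res_pt w k _ (hD.lift_snd _ _ _) (by rw [e, hD.lift_snd])]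
  congr 1

/-- points of an affine object -/
noncomputable def pA {P : Type u} [CommRing P] [Algebra B P] (v : V ⟶ VW β P)
    (h : v ≫ str β P = w) : P →ₐ[B] Wv w :=
  pt w v.left (by rw [← h]; rfl)

theorem res_pA {P : Type u} [CommRing P] [Algebra B P] (k : V' ⟶ V) (v : V ⟶ VW β P)
    (h : v ≫ str β P = w) (h' : (k ≫ v) ≫ str β P = k ≫ w) :
    (res w k).comp (pA w v h) = pA (k ≫ w) (k ≫ v) h' :=
  res_pt w k v.left _ _

end Points

end Groth.Agent.Pic13.H948.Chart
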