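import Groth.Agent.Pic13.H948.CocRing

/-!
# Correction of unit cochains along square-zero base change, general form
-/

set_option autoImplicit false
universe u

open TensorProduct

namespace Groth.Agent.Pic13.H948.CocGen

open Groth.Agent.Pic13.H948.UnitSol Groth.Agent.Pic13.H948.CocLift Groth.Agent.Pic13.H948.CocRing

variable {B : Type u} [CommRing B] {C : Type u} [CommRing C] [Algebra B C]
variable {E E' E'' : Type u} [CommRing E] [Algebra B E] [CommRing E'] [Algebra B E']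
  [CommRing E''] [Algebra B E'']

/-- the equation `z(a,b) y(b) = y(a)` -/
noncomputable def eq1 (da db : E →ₐ[B] E') (z : (C ⊗[B] E')ˣ) : NatEq B (C ⊗[B] E) (C ⊗[B] E') where
  F R _ _ y := (1 : R) ⊗ₜ[B] (z : C ⊗[B] E') * mapRC C R db (y : R ⊗[B] (C ⊗[B] E)) -
    mapRC C R da (y : R ⊗[B] (C ⊗[B] E))
  nat {R R'} _ _ _ _ φ y := by
    change _ = bc (C ⊗[B] E') φ _
    rw [map_sub, map_mul, bc_mapRC, bc_mapRC, bc_one_tmul]
    rfl

/-- the equation `z(a,b,c) y(a,c) = y(b,c) y(a,b)` -/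
noncomputable def eq2 (dbc dac dab : E →ₐ[B] E') (z : (C ⊗[B] E')ˣ) :
    NatEq B (C ⊗[B] E) (C ⊗[B] E') where
  F R _ _ y := (1 : R) ⊗ₜ[B] (z : C ⊗[B] E') * mapRC C R dac (y : R ⊗[B] (C ⊗[B] E)) -
    mapRC C R dbc (y : R ⊗[B] (C ⊗[B] E)) * mapRC C R dab (y : R ⊗[B] (C ⊗[B] E))
  nat {R R'} _ _ _ _ φ y := by
    change _ = bc (C ⊗[B] E') φ _
    rw [map_sub, map_mul, map_mul, bc_mapRC, bc_mapRC, bc_mapRC, bc_one_tmul]
    rfl

theorem lin_eq (R : Type u) [CommRing R] [Algebra B R] (f : E →ₐ[B] E') (g : E' →ₗ[B] E'')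
    (h : E →ₗ[B] E'') (e : g ∘ₗ f.toLinearMap = h) (x : R ⊗[B] (C ⊗[B] E)) :
    linRC C R g (mapRC C R f x) = linRC C R h x := by
  rw [← linRC_mapRC, ← linRC_comp, e]

theorem mapRC_congr (R : Type u) [CommRing R] [Algebra B R] {F : Type u} [CommRing F] [Algebra B F]
    {f : E →ₐ[B] E'} {g : E' →ₐ[B] E''} {f' : E →ₐ[B] F} {g' : F →ₐ[B] E''}
    (h : g.comp f = g'.comp f') (x : R ⊗[B] (C ⊗[B] E)) :
    mapRC C R g (mapRC C R f x) = mapRC C R g' (mapRC C R f' x) := by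
  rw [mapRC_comp, mapRC_comp, h]

theorem lifts1 (da db : E →ₐ[B] E') (eab ebc eac : E' →ₐ[B] E'')
    (h1 : eab.comp da = eac.comp da) (h2 : eab.comp db = ebc.comp da) (h3 : ebc.comp db = eac.comp db)
    (s2 : E' →ₗ[B] E) (s3 : E'' →ₗ[B] E') (hs1 : s3 ∘ₗ eab.toLinearMap = LinearMap.id)
    (hs2 : s3 ∘ₗ ebc.toLinearMap = db.toLinearMap ∘ₗ s2)
    (hs3 : s3 ∘ₗ eac.toLinearMap = da.toLinearMap ∘ₗ s2) (z : (C ⊗[B] E')ˣ)
    (hz : mapC C eab (z : C ⊗[B] E') * mapC C ebc (z : C ⊗[B] E') = mapC C eac (z : C ⊗[B] E')) :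
    (eq1 da db z).Lifts := by
  intro R _ _ I hI x hx
  obtain ⟨y, hy⟩ := exists_unit_lift I hI x
  have hmem : (1 : R) ⊗ₜ[B] (z : C ⊗[B] E') * mapRC C R db (y : R ⊗[B] (C ⊗[B] E)) -
      mapRC C R da (y : R ⊗[B] (C ⊗[B] E)) ∈ ext I (R ⊗[B] (C ⊗[B] E')) := by
    rw [mem_ext_iff]
    have h := (eq1 da db z).nat (Ideal.Quotient.mkₐ B I) y
    rw [hy, hx] at h
    exact h.symm
  obtain ⟨y', h1, h2⟩ := lift1 (R := R) (mapRC C R da) (mapRC C R db)
    (mapRC C R eab) (mapRC C R ebc) (mapRC C R eac)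
    (mapRC_congr R h1) (mapRC_congr R h2) (mapRC_congr R h3)
    (linRC C R s2) (linRC C R s3)
    (fun x => by rw [lin_eq R _ _ _ hs1, linRC_id])
    (fun x => by rw [lin_eq R _ _ _ hs2, linRC_comp, linRC_mapRC])
    (fun x => by rw [lin_eq R _ _ _ hs3, linRC_comp, linRC_mapRC])
    (Units.map ((Algebra.TensorProduct.includeRight : C ⊗[B] E' →ₐ[B] R ⊗[B] (C ⊗[B] E')) :
      C ⊗[B] E' →* R ⊗[B] (C ⊗[B] E')) z)
    (by
      change mapRC C R eab ((1 : R) ⊗ₜ[B] (z : C ⊗[B] E')) *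
        mapRC C R ebc ((1 : R) ⊗ₜ[B] (z : C ⊗[B] E')) =
        mapRC C R eac ((1 : R) ⊗ₜ[B] (z : C ⊗[B] E'))
      rw [mapRC_one_tmul, mapRC_one_tmul, mapRC_one_tmul, Algebra.TensorProduct.tmul_mul_tmul,
        one_mul, hz]) I hI y hmem
  refine ⟨y', sub_eq_zero.mpr h1, ?_⟩
  rw [← hy]
  refine Units.ext ?_
  rw [mem_ext_iff, map_sub, sub_eq_zero] at h2
  exact h2

theorem lifts2 (dbc dac dab : E →ₐ[B] E') (ebcd eacd eabd eabc : E' →ₐ[B] E'')
    (h1 : ebcd.comp dbc = eacd.comp dbc) (h2 : ebcd.comp dac = eabd.comp dbc)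
    (h3 : ebcd.comp dab = eabc.comp dbc) (h4 : eacd.comp dac = eabd.comp dac)
    (h5 : eacd.comp dab = eabc.comp dac) (h6 : eabd.comp dab = eabc.comp dab)
    (s3 : E' →ₗ[B] E) (s4 : E'' →ₗ[B] E') (hs1 : s4 ∘ₗ eabc.toLinearMap = LinearMap.id)
    (hs2 : s4 ∘ₗ ebcd.toLinearMap = dbc.toLinearMap ∘ₗ s3)
    (hs3 : s4 ∘ₗ eacd.toLinearMap = dac.toLinearMap ∘ₗ s3)
    (hs4 : s4 ∘ₗ eabd.toLinearMap = dab.toLinearMap ∘ₗ s3) (z : (C ⊗[B] E')ˣ)
    (hz : mapC C ebcd (z : C ⊗[B] E') * mapC C eabd (z : C ⊗[B] E') =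
      mapC C eacd (z : C ⊗[B] E') * mapC C eabc (z : C ⊗[B] E')) :
    (eq2 dbc dac dab z).Lifts := by
  intro R _ _ I hI x hx
  obtain ⟨y, hy⟩ := exists_unit_lift I hI x
  have hmem : (1 : R) ⊗ₜ[B] (z : C ⊗[B] E') * mapRC C R dac (y : R ⊗[B] (C ⊗[B] E)) -
      mapRC C R dbc (y : R ⊗[B] (C ⊗[B] E)) * mapRC C R dab (y : R ⊗[B] (C ⊗[B] E)) ∈
      ext I (R ⊗[B] (C ⊗[B] E')) := by
    rw [mem_ext_iff]
    have h := (eq2 dbc dac dab z).nat (Ideal.Quotient.mkₐ B I) y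
    rw [hy, hx] at h
    exact h.symm
  obtain ⟨y', h1, h2⟩ := lift2 (R := R) (mapRC C R dbc) (mapRC C R dac) (mapRC C R dab)
    (mapRC C R ebcd) (mapRC C R eacd) (mapRC C R eabd) (mapRC C R eabc)
    (mapRC_congr R h1) (mapRC_congr R h2) (mapRC_congr R h3)
    (mapRC_congr R h4) (mapRC_congr R h5) (mapRC_congr R h6)
    (linRC C R s3) (linRC C R s4)
    (fun x => by rw [lin_eq R _ _ _ hs1, linRC_id])
    (fun x => by rw [lin_eq R _ _ _ hs2, linRC_comp, linRC_mapRC])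
    (fun x => by rw [lin_eq R _ _ _ hs3, linRC_comp, linRC_mapRC])
    (fun x => by rw [lin_eq R _ _ _ hs4, linRC_comp, linRC_mapRC])
    (Units.map ((Algebra.TensorProduct.includeRight : C ⊗[B] E' →ₐ[B] R ⊗[B] (C ⊗[B] E')) :
      C ⊗[B] E' →* R ⊗[B] (C ⊗[B] E')) z)
    (by
      change mapRC C R ebcd ((1 : R) ⊗ₜ[B] (z : C ⊗[B] E')) *
        mapRC C R eabd ((1 : R) ⊗ₜ[B] (z : C ⊗[B] E')) =
        mapRC C R eacd ((1 : R) ⊗ₜ[B] (z : C ⊗[B] E')) *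
        mapRC C R eabc ((1 : R) ⊗ₜ[B] (z : C ⊗[B] E'))
      rw [mapRC_one_tmul, mapRC_one_tmul, mapRC_one_tmul, mapRC_one_tmul,
        Algebra.TensorProduct.tmul_mul_tmul, Algebra.TensorProduct.tmul_mul_tmul,
        one_mul, hz]) I hI y hmem
  refine ⟨y', sub_eq_zero.mpr h1, ?_⟩
  rw [← hy]
  refine Units.ext ?_
  rw [mem_ext_iff, map_sub, sub_eq_zero] at h2
  exact h2

/-- points over algebraically closed fields, degree 1: `y(a) = z(a,s)` -/
theorem pts1 (da db : E →ₐ[B] E') (eab ebc eac : E' →ₐ[B] E'') (z : (C ⊗[B] E')ˣ)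
    (hz : mapC C eab (z : C ⊗[B] E') * mapC C ebc (z : C ⊗[B] E') = mapC C eac (z : C ⊗[B] E'))
    (hp : ∀ (Ω : Type u) [Field Ω] [IsAlgClosed Ω] [Algebra B Ω],
      ∃ (r : E' →ₐ[B] Ω ⊗[B] E) (t : E'' →ₐ[B] Ω ⊗[B] E'),
        t.comp eab = Algebra.TensorProduct.includeRight ∧
        t.comp ebc = (Algebra.TensorProduct.map (AlgHom.id B Ω) db).comp r ∧
        t.comp eac = (Algebra.TensorProduct.map (AlgHom.id B Ω) da).comp r) :
    (eq1 da db z).Pts := by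
  intro Ω _ _ _
  obtain ⟨r, t, h1, h2, h3⟩ := hp Ω
  -- `C ⊗ (Ω ⊗ E) ≃ Ω ⊗ (C ⊗ E)`
  let κ : ∀ (F : Type u) [CommRing F] [Algebra B F], C ⊗[B] (Ω ⊗[B] F) →ₐ[B] Ω ⊗[B] (C ⊗[B] F) :=
    fun F _ _ => Algebra.TensorProduct.lift
      ((Algebra.TensorProduct.includeRight : C ⊗[B] F →ₐ[B] Ω ⊗[B] (C ⊗[B] F)).comp
        Algebra.TensorProduct.includeLeft)
      (Algebra.TensorProduct.map (AlgHom.id B Ω) Algebra.TensorProduct.includeRight)
      (fun _ _ => Commute.all _ _)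
  have hκ : ∀ (F F' : Type u) [CommRing F] [Algebra B F] [CommRing F'] [Algebra B F'] (f : F →ₐ[B] F')
      (x : C ⊗[B] (Ω ⊗[B] F)), κ F' (mapC C (Algebra.TensorProduct.map (AlgHom.id B Ω) f) x) =
      mapRC C Ω f (κ F x) := by
    intro F F' _ _ _ _ f x
    induction x using TensorProduct.induction_on with
    | zero => simp
    | add x y hx hy => rw [map_add, map_add, map_add, map_add, hx, hy]
    | tmul c y =>
      induction y using TensorProduct.induction_on with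
      | zero => simp
      | add x y hx hy => simp only [TensorProduct.tmul_add, map_add, hx, hy]
      | tmul w e => simp [κ]
  have hκ1 : ∀ (x : C ⊗[B] E'), κ E' (mapC C Algebra.TensorProduct.includeRight x) =
      (1 : Ω) ⊗ₜ[B] x := by
    intro x
    induction x using TensorProduct.induction_on with
    | zero => simp
    | add x y hx hy => rw [map_add, map_add, hx, hy, TensorProduct.tmul_add]
    | tmul c y => simp [κ]
  refine ⟨Units.map (((κ E).comp (mapC C r) : C ⊗[B] E' →ₐ[B] Ω ⊗[B] (C ⊗[B] E)) :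
      C ⊗[B] E' →* Ω ⊗[B] (C ⊗[B] E)) z, ?_⟩
  change (1 : Ω) ⊗ₜ[B] (z : C ⊗[B] E') * mapRC C Ω db (κ E (mapC C r z)) -
    mapRC C Ω da (κ E (mapC C r z)) = 0
  rw [sub_eq_zero, ← hκ, ← hκ, ← mapC_comp, ← mapC_comp, ← h2, ← h3, mapC_comp, mapC_comp, ← hz,
    map_mul, map_mul, ← mapC_comp C eab t, h1, hκ1]

/-- points over algebraically closed fields, degree 2: `y(a,b) = z(a,b,s)` -/
theorem pts2 (dbc dac dab : E →ₐ[B] E') (ebcd eacd eabd eabc : E' →ₐ[B] E'') (z : (C ⊗[B] E')ˣ)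
    (hz : mapC C ebcd (z : C ⊗[B] E') * mapC C eabd (z : C ⊗[B] E') =
      mapC C eacd (z : C ⊗[B] E') * mapC C eabc (z : C ⊗[B] E'))
    (hp : ∀ (Ω : Type u) [Field Ω] [IsAlgClosed Ω] [Algebra B Ω],
      ∃ (r : E' →ₐ[B] Ω ⊗[B] E) (t : E'' →ₐ[B] Ω ⊗[B] E'),
        t.comp eabc = Algebra.TensorProduct.includeRight ∧
        t.comp ebcd = (Algebra.TensorProduct.map (AlgHom.id B Ω) dbc).comp r ∧
        t.comp eacd = (Algebra.TensorProduct.map (AlgHom.id B Ω) dac).comp r ∧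
        t.comp eabd = (Algebra.TensorProduct.map (AlgHom.id B Ω) dab).comp r) :
    (eq2 dbc dac dab z).Pts := by
  intro Ω _ _ _
  obtain ⟨r, t, h1, h2, h3, h4⟩ := hp Ω
  let κ : ∀ (F : Type u) [CommRing F] [Algebra B F], C ⊗[B] (Ω ⊗[B] F) →ₐ[B] Ω ⊗[B] (C ⊗[B] F) :=
    fun F _ _ => Algebra.TensorProduct.lift
      ((Algebra.TensorProduct.includeRight : C ⊗[B] F →ₐ[B] Ω ⊗[B] (C ⊗[B] F)).comp
        Algebra.TensorProduct.includeLeft)
      (Algebra.TensorProduct.map (AlgHom.id B Ω) Algebra.TensorProduct.includeRight)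
      (fun _ _ => Commute.all _ _)
  have hκ : ∀ (F F' : Type u) [CommRing F] [Algebra B F] [CommRing F'] [Algebra B F'] (f : F →ₐ[B] F')
      (x : C ⊗[B] (Ω ⊗[B] F)), κ F' (mapC C (Algebra.TensorProduct.map (AlgHom.id B Ω) f) x) =
      mapRC C Ω f (κ F x) := by
    intro F F' _ _ _ _ f x
    induction x using TensorProduct.induction_on with
    | zero => simp
    | add x y hx hy => rw [map_add, map_add, map_add, map_add, hx, hy]
    | tmul c y =>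
      induction y using TensorProduct.induction_on with
      | zero => simp
      | add x y hx hy => simp only [TensorProduct.tmul_add, map_add, hx, hy]
      | tmul w e => simp [κ]
  have hκ1 : ∀ (x : C ⊗[B] E'), κ E' (mapC C Algebra.TensorProduct.includeRight x) =
      (1 : Ω) ⊗ₜ[B] x := by
    intro x
    induction x using TensorProduct.induction_on with
    | zero => simp
    | add x y hx hy => rw [map_add, map_add, hx, hy, TensorProduct.tmul_add]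
    | tmul c y => simp [κ]
  refine ⟨Units.map (((κ E).comp (mapC C r) : C ⊗[B] E' →ₐ[B] Ω ⊗[B] (C ⊗[B] E)) :
      C ⊗[B] E' →* Ω ⊗[B] (C ⊗[B] E)) z, ?_⟩
  change (1 : Ω) ⊗ₜ[B] (z : C ⊗[B] E') * mapRC C Ω dac (κ E (mapC C r z)) -
    mapRC C Ω dbc (κ E (mapC C r z)) * mapRC C Ω dab (κ E (mapC C r z)) = 0
  rw [sub_eq_zero, ← hκ, ← hκ, ← hκ, ← mapC_comp, ← mapC_comp, ← mapC_comp, ← h2, ← h3, ← h4,
    mapC_comp, mapC_comp, mapC_comp, ← map_mul (κ E'), ← map_mul (mapC C t), hz, map_mul, map_mul,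
    ← mapC_comp C eabc t, h1, hκ1, mul_comm]

end Groth.Agent.Pic13.H948.CocGen
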