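import Mathlib.RingTheory.Flat.FaithfullyFlat.Basic
import Mathlib.RingTheory.Ideal.Operations
import Mathlib.RingTheory.Ideal.Maps
import Mathlib.RingTheory.Ideal.Quotient.Operations
import Mathlib.Algebra.Module.Projective
import Mathlib.LinearAlgebra.Dual.Defs
import Mathlib.LinearAlgebra.Dual.Lemmas
import Mathlib.FieldTheory.IsAlgClosed.Basic
import Mathlib.RingTheory.TensorProduct.Finite
import Mathlib.Algebra.Module.Torsion.Basic
import Mathlib.Tactic.LinearCombination

/-!
# Retractions of finite projective faithfully flat algebras, and correction of unit cochains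
along square-zero ideals
-/

set_option autoImplicit false
universe u

namespace Groth.Agent.Pic13.H948.CocLift

section Retraction

variable (B D : Type u) [CommRing B] [CommRing D] [Algebra B D]

/-- A faithfully flat algebra which is a projective module has a linear retraction. -/
theorem exists_retraction [Module.Projective B D] [Module.FaithfullyFlat B D] :
    ∃ σ : D →ₗ[B] B, σ 1 = 1 := by
  let J : Ideal B := LinearMap.range (LinearMap.applyₗ (R := B) (M := D) (M₂ := B) (1 : D))
  by_contra hcon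
  have hJ : J ≠ ⊤ := by
    intro h
    have : (1 : B) ∈ J := by rw [h]; trivial
    obtain ⟨σ, hσ⟩ := this
    exact hcon ⟨σ, hσ⟩
  obtain ⟨m, hm, hJm⟩ := Ideal.exists_le_maximal J hJ
  have hne : (m • (⊤ : Submodule B D)) ≠ ⊤ := Module.FaithfullyFlat.submodule_ne_top hm
  have h1 : (1 : D) ∉ m • (⊤ : Submodule B D) := by
    intro h
    apply hne
    rw [eq_top_iff]
    intro x _
    rw [Ideal.smul_top_eq_map] at h ⊢
    have := Ideal.mul_mem_left _ x h
    rwa [mul_one] at this
  let _ : Field (B ⧸ m) := Ideal.Quotient.field m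
  let q : D →ₗ[B] (D ⧸ (m • (⊤ : Submodule B D))) := Submodule.mkQ _
  have hq : q 1 ≠ 0 := by
    intro h
    exact h1 ((Submodule.Quotient.mk_eq_zero _).mp h)
  obtain ⟨ψ, hψ⟩ : ∃ ψ : (D ⧸ (m • (⊤ : Submodule B D))) →ₗ[B ⧸ m] (B ⧸ m), ψ (q 1) ≠ 0 := by
    by_contra h
    push Not at h
    exact hq ((Module.forall_dual_apply_eq_zero_iff (B ⧸ m) (q 1)).mp h)
  obtain ⟨σ, hσ⟩ := Module.projective_lifting_property
    (Ideal.Quotient.mkₐ B m).toLinearMap (ψ.restrictScalars B ∘ₗ q) Ideal.Quotient.mk_surjective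
  have h2 : Ideal.Quotient.mk m (σ 1) = ψ (q 1) := congr($hσ 1)
  apply hψ
  rw [← h2, Ideal.Quotient.eq_zero_iff_mem]
  exact hJm ⟨σ, rfl⟩

/-- Points of finite faithfully flat algebras with values in algebraically closed fields. -/
theorem exists_algHom [Module.Finite B D] [Module.FaithfullyFlat B D] (Ω : Type u) [Field Ω]
    [IsAlgClosed Ω] [Algebra B Ω] : Nonempty (D →ₐ[B] Ω) := by
  open TensorProduct in
  have : Nontrivial (Ω ⊗[B] D) := inferInstance
  obtain ⟨M, hM⟩ := Ideal.exists_maximal (Ω ⊗[B] D)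
  let _ : Field ((Ω ⊗[B] D) ⧸ M) := Ideal.Quotient.field M
  have hb : Function.Bijective (algebraMap Ω ((Ω ⊗[B] D) ⧸ M)) :=
    IsAlgClosed.algebraMap_bijective_of_isIntegral
  let e : Ω ≃ₐ[Ω] ((Ω ⊗[B] D) ⧸ M) := AlgEquiv.ofBijective (Algebra.ofId _ _) hb
  exact ⟨((e.symm.toAlgHom.comp (Ideal.Quotient.mkₐ Ω M)).restrictScalars B).comp
    Algebra.TensorProduct.includeRight⟩

end Retraction

section Core

variable {R : Type u} [CommRing R] {A A' A'' : Type u} [CommRing A] [CommRing A'] [CommRing A'']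
  [Algebra R A] [Algebra R A'] [Algebra R A'']

/-- the extended ideal -/
abbrev ext (I : Ideal R) (A : Type u) [CommRing A] [Algebra R A] : Ideal A := I.map (algebraMap R A)

theorem algHom_mem {I : Ideal R} (f : A →ₐ[R] A') {x : A} (hx : x ∈ ext I A) : f x ∈ ext I A' := by
  have h := Ideal.mem_map_of_mem (f : A →+* A') hx
  rwa [Ideal.map_map, AlgHom.comp_algebraMap] at h

theorem linear_mem {I : Ideal R} (f : A →ₗ[R] A') {x : A} (hx : x ∈ ext I A) : f x ∈ ext I A' := by
  have h1 : x ∈ I • (⊤ : Submodule R A) := by rw [Ideal.smul_top_eq_map]; exact hx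
  have h2 : f x ∈ I • (⊤ : Submodule R A') := by
    have h3 : (I • (⊤ : Submodule R A)).map f ≤ I • (⊤ : Submodule R A') := by
      rw [Submodule.map_smul'']
      exact Submodule.smul_mono le_rfl le_top
    exact h3 ⟨x, h1, rfl⟩
  rw [Ideal.smul_top_eq_map] at h2
  exact h2

theorem mul_eq_zero_of_mem {I : Ideal R} (hI : I ^ 2 = ⊥) {x y : A} (hx : x ∈ ext I A)
    (hy : y ∈ ext I A) : x * y = 0 := by
  have h := Ideal.mul_mem_mul hx hy
  rw [← Ideal.map_mul, ← pow_two, hI, Ideal.map_bot] at h
  exact h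

/-- `1 + v` as a unit. -/
def oneAdd {I : Ideal R} (hI : I ^ 2 = ⊥) {v : A} (hv : v ∈ ext I A) : Aˣ where
  val := 1 + v
  inv := 1 - v
  val_inv := by
    have := mul_eq_zero_of_mem hI hv hv
    ring_nf
    rw [pow_two, this, sub_zero]
  inv_val := by
    have := mul_eq_zero_of_mem hI hv hv
    ring_nf
    rw [pow_two, this, sub_zero]

/-- correction of 0-cochains -/
theorem lift1 (da db : A →ₐ[R] A') (eab ebc eac : A' →ₐ[R] A'')
    (h1 : ∀ x, eab (da x) = eac (da x)) (h2 : ∀ x, eab (db x) = ebc (da x))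
    (h3 : ∀ x, ebc (db x) = eac (db x)) (s2 : A' →ₗ[R] A) (s3 : A'' →ₗ[R] A')
    (hs1 : ∀ x, s3 (eab x) = x) (hs2 : ∀ x, s3 (ebc x) = db (s2 x))
    (hs3 : ∀ x, s3 (eac x) = da (s2 x)) (z : A'ˣ) (hz : eab z * ebc z = eac z)
    (I : Ideal R) (hI : I ^ 2 = ⊥) (y : Aˣ) (hy : (z : A') * db y - da y ∈ ext I A') :
    ∃ y' : Aˣ, (z : A') * db y' = da y' ∧ (y' : A) - y ∈ ext I A := by
  obtain ⟨W, hW⟩ : ∃ W : A'ˣ, W = z * Units.map (db : A →* A') y * (Units.map (da : A →* A') y)⁻¹ :=
    ⟨_, rfl⟩
  have hWy : (W : A') * da y = z * db y := by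
    have : W * Units.map (da : A →* A') y = z * Units.map (db : A →* A') y := by
      rw [hW, inv_mul_cancel_right]
    exact congrArg Units.val this
  have hw : (W : A') - 1 ∈ ext I A' := by
    have h4 : ((W : A') - 1) * da y ∈ ext I A' := by
      rw [sub_mul, hWy, one_mul]
      exact hy
    have h5 := Ideal.mul_mem_right (((Units.map (da : A →* A') y)⁻¹ : A'ˣ) : A') _ h4
    have h6 : da y * (((Units.map (da : A →* A') y)⁻¹ : A'ˣ) : A') = 1 :=
      (Units.map (da : A →* A') y).mul_inv
    rwa [mul_assoc, h6, mul_one] at h5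
  have hcoc : eab W * ebc W = eac W := by
    have hu : Units.map (eab : A' →* A'') W * Units.map (ebc : A' →* A'') W =
        Units.map (eac : A' →* A'') W := by
      have e1 : Units.map (eab : A' →* A'') (Units.map (da : A →* A') y) =
        Units.map (eac : A' →* A'') (Units.map (da : A →* A') y) := Units.ext (h1 _)
      have e2 : Units.map (eab : A' →* A'') (Units.map (db : A →* A') y) =
        Units.map (ebc : A' →* A'') (Units.map (da : A →* A') y) := Units.ext (h2 _)
      have e3 : Units.map (ebc : A' →* A'') (Units.map (db : A →* A') y) =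
        Units.map (eac : A' →* A'') (Units.map (db : A →* A') y) := Units.ext (h3 _)
      have e4 : Units.map (eab : A' →* A'') z * Units.map (ebc : A' →* A'') z =
        Units.map (eac : A' →* A'') z := Units.ext hz
      rw [hW]
      simp only [map_mul, map_inv]
      rw [e1, e2, e3, ← e4]
      generalize Units.map (eab : A' →* A'') z = z1
      generalize Units.map (ebc : A' →* A'') z = z2
      generalize Units.map (ebc : A' →* A'') (Units.map (da : A →* A') y) = y1
      generalize Units.map (eac : A' →* A'') (Units.map (da : A →* A') y) = y2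
      generalize Units.map (eac : A' →* A'') (Units.map (db : A →* A') y) = y3
      calc z1 * y1 * y2⁻¹ * (z2 * y3 * y1⁻¹) = z1 * z2 * y3 * y2⁻¹ * (y1 * y1⁻¹) := by
            simp only [mul_assoc, mul_comm, mul_left_comm]
        _ = z1 * z2 * y3 * y2⁻¹ := by rw [mul_inv_cancel, mul_one]
    exact congrArg Units.val hu
  obtain ⟨w, hwW⟩ : ∃ w : A', w = W - 1 := ⟨_, rfl⟩
  rw [← hwW] at hw
  have hW1 : (W : A') = 1 + w := by rw [hwW]; ring
  have hadd : eab w + ebc w = eac w := by
    rw [hW1, map_add, map_add, map_add, map_one, map_one, map_one] at hcoc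
    have h0 := mul_eq_zero_of_mem hI (algHom_mem eab hw) (algHom_mem ebc hw)
    linear_combination hcoc - h0
  have hv : w + db (s2 w) = da (s2 w) := by
    have := congrArg s3 hadd
    rwa [map_add, hs1, hs2, hs3] at this
  have hvI : s2 w ∈ ext I A := linear_mem s2 hw
  refine ⟨y * oneAdd hI hvI, ?_, ?_⟩
  · change (z : A') * db (y * (1 + s2 w)) = da (y * (1 + s2 w))
    rw [map_mul, map_mul, ← mul_assoc, ← hWy, hW1, map_add, map_add, map_one, map_one]
    have h0 := mul_eq_zero_of_mem hI hw (algHom_mem db hvI)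
    linear_combination (da (y : A)) * hv + (da (y : A)) * h0
  · change (y : A) * (1 + s2 w) - y ∈ ext I A
    rw [mul_add, mul_one, add_sub_cancel_left]
    exact Ideal.mul_mem_left _ _ hvI

/-- correction of 1-cochains -/
theorem lift2 (dbc dac dab : A →ₐ[R] A') (ebcd eacd eabd eabc : A' →ₐ[R] A'')
    (h1 : ∀ x, ebcd (dbc x) = eacd (dbc x)) (h2 : ∀ x, ebcd (dac x) = eabd (dbc x))
    (h3 : ∀ x, ebcd (dab x) = eabc (dbc x)) (h4 : ∀ x, eacd (dac x) = eabd (dac x))
    (h5 : ∀ x, eacd (dab x) = eabc (dac x)) (h6 : ∀ x, eabd (dab x) = eabc (dab x))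
    (s3 : A' →ₗ[R] A) (s4 : A'' →ₗ[R] A')
    (hs1 : ∀ x, s4 (eabc x) = x) (hs2 : ∀ x, s4 (ebcd x) = dbc (s3 x))
    (hs3 : ∀ x, s4 (eacd x) = dac (s3 x)) (hs4 : ∀ x, s4 (eabd x) = dab (s3 x))
    (z : A'ˣ) (hz : ebcd z * eabd z = eacd z * eabc z)
    (I : Ideal R) (hI : I ^ 2 = ⊥) (y : Aˣ) (hy : (z : A') * dac y - dbc y * dab y ∈ ext I A') :
    ∃ y' : Aˣ, (z : A') * dac y' = dbc y' * dab y' ∧ (y' : A) - y ∈ ext I A := by
  obtain ⟨W, hW⟩ : ∃ W : A'ˣ, W = z * Units.map (dac : A →* A') y *
      (Units.map (dbc : A →* A') y * Units.map (dab : A →* A') y)⁻¹ := ⟨_, rfl⟩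
  have hWy : (W : A') * (dbc y * dab y) = z * dac y := by
    have : W * (Units.map (dbc : A →* A') y * Units.map (dab : A →* A') y) =
        z * Units.map (dac : A →* A') y := by
      rw [hW, inv_mul_cancel_right]
    exact congrArg Units.val this
  have hw : (W : A') - 1 ∈ ext I A' := by
    have h4 : ((W : A') - 1) * (dbc y * dab y) ∈ ext I A' := by
      rw [sub_mul, hWy, one_mul]
      exact hy
    have h5 := Ideal.mul_mem_right (((Units.map (dbc : A →* A') y *
      Units.map (dab : A →* A') y)⁻¹ : A'ˣ) : A') _ h4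
    have h6 : (dbc y * dab y) * (((Units.map (dbc : A →* A') y *
      Units.map (dab : A →* A') y)⁻¹ : A'ˣ) : A') = 1 :=
      (Units.map (dbc : A →* A') y * Units.map (dab : A →* A') y).mul_inv
    rwa [mul_assoc, h6, mul_one] at h5
  have hcoc : ebcd W * eabd W = eacd W * eabc W := by
    have hu : Units.map (ebcd : A' →* A'') W * Units.map (eabd : A' →* A'') W =
        Units.map (eacd : A' →* A'') W * Units.map (eabc : A' →* A'') W := by
      have e1 : Units.map (ebcd : A' →* A'') (Units.map (dbc : A →* A') y) =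
        Units.map (eacd : A' →* A'') (Units.map (dbc : A →* A') y) := Units.ext (h1 _)
      have e2 : Units.map (ebcd : A' →* A'') (Units.map (dac : A →* A') y) =
        Units.map (eabd : A' →* A'') (Units.map (dbc : A →* A') y) := Units.ext (h2 _)
      have e3 : Units.map (ebcd : A' →* A'') (Units.map (dab : A →* A') y) =
        Units.map (eabc : A' →* A'') (Units.map (dbc : A →* A') y) := Units.ext (h3 _)
      have e4 : Units.map (eacd : A' →* A'') (Units.map (dac : A →* A') y) =
        Units.map (eabd : A' →* A'') (Units.map (dac : A →* A') y) := Units.ext (h4 _)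
      have e5 : Units.map (eacd : A' →* A'') (Units.map (dab : A →* A') y) =
        Units.map (eabc : A' →* A'') (Units.map (dac : A →* A') y) := Units.ext (h5 _)
      have e6 : Units.map (eabd : A' →* A'') (Units.map (dab : A →* A') y) =
        Units.map (eabc : A' →* A'') (Units.map (dab : A →* A') y) := Units.ext (h6 _)
      have e7 : Units.map (ebcd : A' →* A'') z * Units.map (eabd : A' →* A'') z =
        Units.map (eacd : A' →* A'') z * Units.map (eabc : A' →* A'') z := Units.ext hz
      rw [hW]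
      simp only [map_mul, map_inv, mul_inv]
      rw [e1, e2, e3, e4, e5, e6]
      generalize Units.map (eacd : A' →* A'') (Units.map (dbc : A →* A') y) = ycd
      generalize Units.map (eabd : A' →* A'') (Units.map (dbc : A →* A') y) = ybd
      generalize Units.map (eabc : A' →* A'') (Units.map (dbc : A →* A') y) = ybc
      generalize Units.map (eabd : A' →* A'') (Units.map (dac : A →* A') y) = yad
      generalize Units.map (eabc : A' →* A'') (Units.map (dac : A →* A') y) = yac
      generalize Units.map (eabc : A' →* A'') (Units.map (dab : A →* A') y) = yab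
      generalize Units.map (ebcd : A' →* A'') z = z1 at *
      generalize Units.map (eabd : A' →* A'') z = z2 at *
      generalize Units.map (eacd : A' →* A'') z = z3 at *
      generalize Units.map (eabc : A' →* A'') z = z4 at *
      calc z1 * ybd * (ycd⁻¹ * ybc⁻¹) * (z2 * yad * (ybd⁻¹ * yab⁻¹))
          = (z1 * z2) * (ybd * ybd⁻¹) * (ycd⁻¹ * ybc⁻¹ * yad * yab⁻¹) := by
            simp only [mul_assoc, mul_comm, mul_left_comm]
        _ = (z3 * z4) * (yac * yac⁻¹) * (ycd⁻¹ * ybc⁻¹ * yad * yab⁻¹) := by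
            rw [e7, mul_inv_cancel, mul_inv_cancel]
        _ = z3 * yad * (ycd⁻¹ * yac⁻¹) * (z4 * yac * (ybc⁻¹ * yab⁻¹)) := by
            simp only [mul_assoc, mul_comm, mul_left_comm]
    exact congrArg Units.val hu
  obtain ⟨w, hwW⟩ : ∃ w : A', w = W - 1 := ⟨_, rfl⟩
  rw [← hwW] at hw
  have hW1 : (W : A') = 1 + w := by rw [hwW]; ring
  have hadd : ebcd w + eabd w = eacd w + eabc w := by
    rw [hW1, map_add, map_add, map_add, map_add, map_one, map_one, map_one, map_one] at hcoc
    have h0 := mul_eq_zero_of_mem hI (algHom_mem ebcd hw) (algHom_mem eabd hw)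
    have h0' := mul_eq_zero_of_mem hI (algHom_mem eacd hw) (algHom_mem eabc hw)
    linear_combination hcoc - h0 + h0'
  have hv : dbc (s3 w) + dab (s3 w) = dac (s3 w) + w := by
    have := congrArg s4 hadd
    rwa [map_add, map_add, hs1, hs2, hs3, hs4] at this
  have hvI : s3 w ∈ ext I A := linear_mem s3 hw
  refine ⟨y * oneAdd hI hvI, ?_, ?_⟩
  · change (z : A') * dac (y * (1 + s3 w)) = dbc (y * (1 + s3 w)) * dab (y * (1 + s3 w))
    rw [map_mul, map_mul, map_mul, ← mul_assoc, ← hWy, hW1, map_add, map_add, map_add, map_one,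
      map_one, map_one]
    have h0 := mul_eq_zero_of_mem hI hw (algHom_mem dac hvI)
    have h0' := mul_eq_zero_of_mem hI (algHom_mem dbc hvI) (algHom_mem dab hvI)
    linear_combination (-(dbc (y : A)) * (dab (y : A))) * hv + (dbc (y : A)) * (dab (y : A)) * h0 -
      (dbc (y : A)) * (dab (y : A)) * h0'
  · change (y : A) * (1 + s3 w) - y ∈ ext I A
    rw [mul_add, mul_one, add_sub_cancel_left]
    exact Ideal.mul_mem_left _ _ hvI

end Core

end Groth.Agent.Pic13.H948.CocLift
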