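import Groth.Agent.Pic13.H948.UnitSol
import Groth.Agent.Pic13.H948.CocLift
import Mathlib.LinearAlgebra.TensorProduct.RightExactness

/-!
# Unit cocycles of a finite projective faithfully flat algebra with values in a finite projective
algebra become coboundaries over a smooth surjective base change
-/

set_option autoImplicit false
universe u

open TensorProduct

namespace Groth.Agent.Pic13.H948.CocRing

open Groth.Agent.Pic13.H948.UnitSol Groth.Agent.Pic13.H948.CocLift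

section Defs

variable (B : Type u) [CommRing B] (D : Type u) [CommRing D] [Algebra B D]

/-- double tensor power -/
abbrev D2 : Type u := D ⊗[B] D
/-- triple tensor power -/
abbrev D3 : Type u := D ⊗[B] D2 B D
/-- fourfold tensor power -/
abbrev D4 : Type u := D ⊗[B] D3 B D

variable {B D}
variable {W : Type u} [CommRing W] [Algebra B W]

/-- maps from the double tensor power -/
noncomputable def l2 (a b : D →ₐ[B] W) : D2 B D →ₐ[B] W :=
  Algebra.TensorProduct.lift a b (fun _ _ => Commute.all _ _)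
/-- maps from the triple tensor power -/
noncomputable def l3 (a b c : D →ₐ[B] W) : D3 B D →ₐ[B] W :=
  Algebra.TensorProduct.lift a (l2 b c) (fun _ _ => Commute.all _ _)
/-- maps from the fourfold tensor power -/
noncomputable def l4 (a b c d : D →ₐ[B] W) : D4 B D →ₐ[B] W :=
  Algebra.TensorProduct.lift a (l3 b c d) (fun _ _ => Commute.all _ _)

@[simp] theorem l2_tmul (a b : D →ₐ[B] W) (x y : D) : l2 a b (x ⊗ₜ y) = a x * b y := rfl
@[simp] theorem l3_tmul (a b c : D →ₐ[B] W) (x : D) (y : D2 B D) :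
    l3 a b c (x ⊗ₜ y) = a x * l2 b c y := rfl
@[simp] theorem l4_tmul (a b c d : D →ₐ[B] W) (x : D) (y : D3 B D) :
    l4 a b c d (x ⊗ₜ y) = a x * l3 b c d y := rfl

variable (B D) in
/-- first inclusion -/
noncomputable def i21 : D →ₐ[B] D2 B D := Algebra.TensorProduct.includeLeft
variable (B D) in
/-- second inclusion -/
noncomputable def i22 : D →ₐ[B] D2 B D := Algebra.TensorProduct.includeRight
variable (B D) in
/-- first inclusion -/
noncomputable def i31 : D →ₐ[B] D3 B D := Algebra.TensorProduct.includeLeft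
variable (B D) in
/-- second inclusion -/
noncomputable def i32 : D →ₐ[B] D3 B D := Algebra.TensorProduct.includeRight.comp (i21 B D)
variable (B D) in
/-- third inclusion -/
noncomputable def i33 : D →ₐ[B] D3 B D := Algebra.TensorProduct.includeRight.comp (i22 B D)
variable (B D) in
/-- first inclusion -/
noncomputable def i41 : D →ₐ[B] D4 B D := Algebra.TensorProduct.includeLeft
variable (B D) in
/-- second inclusion -/
noncomputable def i42 : D →ₐ[B] D4 B D := Algebra.TensorProduct.includeRight.comp (i31 B D)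
variable (B D) in
/-- third inclusion -/
noncomputable def i43 : D →ₐ[B] D4 B D := Algebra.TensorProduct.includeRight.comp (i32 B D)
variable (B D) in
/-- fourth inclusion -/
noncomputable def i44 : D →ₐ[B] D4 B D := Algebra.TensorProduct.includeRight.comp (i33 B D)

@[simp] theorem i21_apply (x : D) : i21 B D x = x ⊗ₜ 1 := rfl
@[simp] theorem i22_apply (x : D) : i22 B D x = 1 ⊗ₜ x := rfl
@[simp] theorem i31_apply (x : D) : i31 B D x = x ⊗ₜ 1 := rfl
@[simp] theorem i32_apply (x : D) : i32 B D x = 1 ⊗ₜ (x ⊗ₜ 1) := rfl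
@[simp] theorem i33_apply (x : D) : i33 B D x = 1 ⊗ₜ (1 ⊗ₜ x) := rfl
@[simp] theorem i41_apply (x : D) : i41 B D x = x ⊗ₜ 1 := rfl
@[simp] theorem i42_apply (x : D) : i42 B D x = 1 ⊗ₜ (x ⊗ₜ 1) := rfl
@[simp] theorem i43_apply (x : D) : i43 B D x = 1 ⊗ₜ (1 ⊗ₜ (x ⊗ₜ 1)) := rfl
@[simp] theorem i44_apply (x : D) : i44 B D x = 1 ⊗ₜ (1 ⊗ₜ (1 ⊗ₜ x)) := rfl

theorem ext2 {f g : D2 B D →ₐ[B] W} (h1 : f.comp (i21 B D) = g.comp (i21 B D))
    (h2 : f.comp (i22 B D) = g.comp (i22 B D)) : f = g :=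
  Algebra.TensorProduct.ext h1 h2

theorem ext3 {f g : D3 B D →ₐ[B] W} (h1 : f.comp (i31 B D) = g.comp (i31 B D))
    (h2 : f.comp (i32 B D) = g.comp (i32 B D)) (h3 : f.comp (i33 B D) = g.comp (i33 B D)) : f = g := by
  refine Algebra.TensorProduct.ext h1 ?_
  exact ext2 (f := (f.restrictScalars B).comp Algebra.TensorProduct.includeRight)
    (g := (g.restrictScalars B).comp Algebra.TensorProduct.includeRight) h2 h3

@[simp] theorem l2_i21 (a b : D →ₐ[B] W) : (l2 a b).comp (i21 B D) = a := by ext; simp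
@[simp] theorem l2_i22 (a b : D →ₐ[B] W) : (l2 a b).comp (i22 B D) = b := by ext; simp
@[simp] theorem l3_i31 (a b c : D →ₐ[B] W) : (l3 a b c).comp (i31 B D) = a := by ext; simp
@[simp] theorem l3_i32 (a b c : D →ₐ[B] W) : (l3 a b c).comp (i32 B D) = b := by ext; simp
@[simp] theorem l3_i33 (a b c : D →ₐ[B] W) : (l3 a b c).comp (i33 B D) = c := by ext; simp
@[simp] theorem l4_i41 (a b c d : D →ₐ[B] W) : (l4 a b c d).comp (i41 B D) = a := by ext; simp
@[simp] theorem l4_i42 (a b c d : D →ₐ[B] W) : (l4 a b c d).comp (i42 B D) = b := by ext; simp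
@[simp] theorem l4_i43 (a b c d : D →ₐ[B] W) : (l4 a b c d).comp (i43 B D) = c := by ext; simp
@[simp] theorem l4_i44 (a b c d : D →ₐ[B] W) : (l4 a b c d).comp (i44 B D) = d := by ext; simp

theorem comp_l2 {W' : Type u} [CommRing W'] [Algebra B W'] (f : W →ₐ[B] W') (a b : D →ₐ[B] W) :
    f.comp (l2 a b) = l2 (f.comp a) (f.comp b) :=
  ext2 (by rw [AlgHom.comp_assoc, l2_i21, l2_i21]) (by rw [AlgHom.comp_assoc, l2_i22, l2_i22])

theorem comp_l3 {W' : Type u} [CommRing W'] [Algebra B W'] (f : W →ₐ[B] W') (a b c : D →ₐ[B] W) :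
    f.comp (l3 a b c) = l3 (f.comp a) (f.comp b) (f.comp c) :=
  ext3 (by rw [AlgHom.comp_assoc, l3_i31, l3_i31]) (by rw [AlgHom.comp_assoc, l3_i32, l3_i32])
    (by rw [AlgHom.comp_assoc, l3_i33, l3_i33])

theorem l2_self : l2 (i21 B D) (i22 B D) = AlgHom.id B _ :=
  ext2 (by rw [l2_i21]; rfl) (by rw [l2_i22]; rfl)

theorem l3_self : l3 (i31 B D) (i32 B D) (i33 B D) = AlgHom.id B _ :=
  ext3 (by rw [l3_i31]; rfl) (by rw [l3_i32]; rfl) (by rw [l3_i33]; rfl)

/-- contraction of the last variable -/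
noncomputable def S2 (σ : D →ₗ[B] B) : D2 B D →ₗ[B] D :=
  (TensorProduct.rid B D).toLinearMap ∘ₗ σ.lTensor D
/-- contraction of the last variable -/
noncomputable def S3 (σ : D →ₗ[B] B) : D3 B D →ₗ[B] D2 B D := (S2 σ).lTensor D
/-- contraction of the last variable -/
noncomputable def S4 (σ : D →ₗ[B] B) : D4 B D →ₗ[B] D3 B D := (S3 σ).lTensor D

@[simp] theorem S2_tmul (σ : D →ₗ[B] B) (x y : D) : S2 σ (x ⊗ₜ y) = σ y • x := rfl
@[simp] theorem S3_tmul (σ : D →ₗ[B] B) (x : D) (y : D2 B D) : S3 σ (x ⊗ₜ y) = x ⊗ₜ S2 σ y := rfl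
@[simp] theorem S4_tmul (σ : D →ₗ[B] B) (x : D) (y : D3 B D) : S4 σ (x ⊗ₜ y) = x ⊗ₜ S3 σ y := rfl

/-- coface maps `D2 → D3`. -/
noncomputable abbrev d12 : D2 B D →ₐ[B] D3 B D := l2 (W := D3 B D) (i31 B D) (i32 B D)
/-- coface maps `D2 → D3`. -/
noncomputable abbrev d23 : D2 B D →ₐ[B] D3 B D := l2 (W := D3 B D) (i32 B D) (i33 B D)
/-- coface maps `D2 → D3`. -/
noncomputable abbrev d13 : D2 B D →ₐ[B] D3 B D := l2 (W := D3 B D) (i31 B D) (i33 B D)
/-- coface maps `D3 → D4`. -/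
noncomputable abbrev e123 : D3 B D →ₐ[B] D4 B D := l3 (W := D4 B D) (i41 B D) (i42 B D) (i43 B D)
/-- coface maps `D3 → D4`. -/
noncomputable abbrev e124 : D3 B D →ₐ[B] D4 B D := l3 (W := D4 B D) (i41 B D) (i42 B D) (i44 B D)
/-- coface maps `D3 → D4`. -/
noncomputable abbrev e134 : D3 B D →ₐ[B] D4 B D := l3 (W := D4 B D) (i41 B D) (i43 B D) (i44 B D)
/-- coface maps `D3 → D4`. -/
noncomputable abbrev e234 : D3 B D →ₐ[B] D4 B D := l3 (W := D4 B D) (i42 B D) (i43 B D) (i44 B D)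

section Contr

variable {σ : D →ₗ[B] B} (hσ : σ 1 = 1)

include hσ

theorem S3_d12 : S3 σ ∘ₗ (d12 (B := B) (D := D)).toLinearMap = LinearMap.id := by
  ext x y
  simp [hσ]

omit hσ in
theorem S3_d23 : S3 σ ∘ₗ (d23 (B := B) (D := D)).toLinearMap = (i22 B D).toLinearMap ∘ₗ S2 σ := by
  ext x y
  simp

omit hσ in
theorem S3_d13 : S3 σ ∘ₗ (d13 (B := B) (D := D)).toLinearMap = (i21 B D).toLinearMap ∘ₗ S2 σ := by
  ext x y
  simp [TensorProduct.smul_tmul']

theorem S4_e123 : S4 σ ∘ₗ (e123 (B := B) (D := D)).toLinearMap = LinearMap.id := by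
  ext x y z
  simp [hσ]

omit hσ in
theorem S4_e234 : S4 σ ∘ₗ (e234 (B := B) (D := D)).toLinearMap =
    (d23 (B := B) (D := D)).toLinearMap ∘ₗ S3 σ := by
  ext x y z
  simp

omit hσ in
theorem S4_e134 : S4 σ ∘ₗ (e134 (B := B) (D := D)).toLinearMap =
    (d13 (B := B) (D := D)).toLinearMap ∘ₗ S3 σ := by
  ext x y z
  simp [TensorProduct.smul_tmul']
  rw [← TensorProduct.smul_tmul' (σ z) (1 : D) y, TensorProduct.tmul_smul, TensorProduct.smul_tmul']

omit hσ in
theorem S4_e124 : S4 σ ∘ₗ (e124 (B := B) (D := D)).toLinearMap =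
    (d12 (B := B) (D := D)).toLinearMap ∘ₗ S3 σ := by
  ext x y z
  simp [TensorProduct.smul_tmul']
  rw [← TensorProduct.smul_tmul' (σ z) y (1 : D), TensorProduct.tmul_smul, TensorProduct.smul_tmul']

end Contr

end Defs

section Coeff

variable {B : Type u} [CommRing B] {C : Type u} [CommRing C] [Algebra B C]
variable {E E' E'' : Type u} [CommRing E] [Algebra B E] [CommRing E'] [Algebra B E']
  [CommRing E''] [Algebra B E'']

variable (C) in
/-- coefficients `C` -/
noncomputable abbrev mapC (f : E →ₐ[B] E') : C ⊗[B] E →ₐ[B] C ⊗[B] E' :=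
  Algebra.TensorProduct.map (AlgHom.id B C) f

variable (C) in
theorem mapC_comp (f : E →ₐ[B] E') (g : E' →ₐ[B] E'') (x : C ⊗[B] E) :
    mapC C (g.comp f) x = mapC C g (mapC C f x) := by
  induction x using TensorProduct.induction_on with
  | zero => simp
  | tmul r m => simp
  | add x y hx hy => rw [map_add, hx, hy, map_add, map_add]

variable (R : Type u) [CommRing R] [Algebra B R]

variable (C) in
/-- base change to `R` of the coefficient version -/
noncomputable abbrev mapRC (f : E →ₐ[B] E') : R ⊗[B] (C ⊗[B] E) →ₐ[R] R ⊗[B] (C ⊗[B] E') :=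
  Algebra.TensorProduct.map (AlgHom.id R R) (mapC C f)

variable (C) in
/-- linear version -/
noncomputable def linRC (g : E →ₗ[B] E') : R ⊗[B] (C ⊗[B] E) →ₗ[R] R ⊗[B] (C ⊗[B] E') :=
  (g.lTensor C).baseChange R

variable (C) in
theorem linRC_comp (g : E →ₗ[B] E') (g' : E' →ₗ[B] E'') (x : R ⊗[B] (C ⊗[B] E)) :
    linRC C R (g' ∘ₗ g) x = linRC C R g' (linRC C R g x) := by
  rw [linRC, LinearMap.lTensor_comp, LinearMap.baseChange_comp]
  rfl

variable (C) in
theorem linRC_id (x : R ⊗[B] (C ⊗[B] E)) : linRC C R (LinearMap.id : E →ₗ[B] E) x = x := by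
  rw [linRC, LinearMap.lTensor_id, LinearMap.baseChange_id]
  rfl

variable (C) in
theorem linRC_mapRC (f : E →ₐ[B] E') (x : R ⊗[B] (C ⊗[B] E)) :
    linRC C R f.toLinearMap x = mapRC C R f x := rfl

variable (C) in
theorem mapRC_comp (f : E →ₐ[B] E') (g : E' →ₐ[B] E'') (x : R ⊗[B] (C ⊗[B] E)) :
    mapRC C R g (mapRC C R f x) = mapRC C R (g.comp f) x := by
  rw [← linRC_mapRC, ← linRC_mapRC, ← linRC_comp, ← linRC_mapRC]
  rfl

variable (C) in
theorem bc_mapRC {R R' : Type u} [CommRing R] [Algebra B R] [CommRing R'] [Algebra B R']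
    (φ : R →ₐ[B] R') (f : E →ₐ[B] E') (x : R ⊗[B] (C ⊗[B] E)) :
    bc (C ⊗[B] E') φ (mapRC C R f x) = mapRC C R' f (bc (C ⊗[B] E) φ x) := by
  induction x using TensorProduct.induction_on with
  | zero => simp
  | tmul r m => simp
  | add x y hx hy => simp only [map_add, hx, hy]

theorem bc_one_tmul {R R' : Type u} [CommRing R] [Algebra B R] [CommRing R'] [Algebra B R']
    (φ : R →ₐ[B] R') (z : E) : bc E φ ((1 : R) ⊗ₜ[B] z) = (1 : R') ⊗ₜ[B] z := by
  simp

theorem mapRC_one_tmul (f : E →ₐ[B] E') (z : C ⊗[B] E) :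
    mapRC C R f ((1 : R) ⊗ₜ[B] z) = (1 : R) ⊗ₜ[B] mapC C f z := by
  simp

/-- the kernel of a square zero base change -/
theorem mem_ext_iff {R : Type u} [CommRing R] [Algebra B R] (I : Ideal R) (x : R ⊗[B] E) :
    x ∈ ext I (R ⊗[B] E) ↔ bc E (Ideal.Quotient.mkₐ B I) x = 0 := by
  have h := Algebra.TensorProduct.rTensor_ker (R := B) (S := B) (C := E) (Ideal.Quotient.mkₐ B I)
    (Ideal.Quotient.mkₐ_surjective B I)
  have h0 : RingHom.ker (Ideal.Quotient.mkₐ B I) = I := Ideal.mk_ker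
  rw [h0] at h
  have h2 : RingHom.ker (Algebra.TensorProduct.map (Ideal.Quotient.mkₐ B I) (AlgHom.id B E)) =
      ext I (R ⊗[B] E) := by
    rw [h]
    exact congrArg (fun f : R →+* R ⊗[B] E => I.map f) rfl
  rw [← h2]
  exact RingHom.mem_ker

theorem bc_surjective {R R' : Type u} [CommRing R] [Algebra B R] [CommRing R'] [Algebra B R']
    {φ : R →ₐ[B] R'} (hφ : Function.Surjective φ) : Function.Surjective (bc E φ) :=
  Algebra.TensorProduct.map_surjective _ _ hφ Function.surjective_id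

/-- units lift along square-zero base change -/
theorem exists_unit_lift {R : Type u} [CommRing R] [Algebra B R] (I : Ideal R) (hI : I ^ 2 = ⊥)
    (x : ((R ⧸ I) ⊗[B] E)ˣ) : ∃ y : (R ⊗[B] E)ˣ, ubc E (Ideal.Quotient.mkₐ B I) y = x := by
  obtain ⟨y, hy⟩ := bc_surjective (E := E) (Ideal.Quotient.mkₐ_surjective B I) (x : (R ⧸ I) ⊗[B] E)
  obtain ⟨y', hy'⟩ := bc_surjective (E := E) (Ideal.Quotient.mkₐ_surjective B I)
    ((x⁻¹ : ((R ⧸ I) ⊗[B] E)ˣ) : (R ⧸ I) ⊗[B] E)
  have h1 : y * y' - 1 ∈ ext I (R ⊗[B] E) := by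
    rw [mem_ext_iff, map_sub, map_mul, hy, hy', map_one, Units.mul_inv, sub_self]
  obtain ⟨v, hv⟩ : ∃ v, v = y * y' - 1 := ⟨_, rfl⟩
  rw [← hv] at h1
  have h2 : y * y' = oneAdd hI h1 := by
    change y * y' = 1 + v
    rw [hv]; ring
  refine ⟨⟨y, y' * ((oneAdd hI h1)⁻¹ : (R ⊗[B] E)ˣ), ?_, ?_⟩, Units.ext hy⟩
  · rw [← mul_assoc, h2, Units.mul_inv]
  · refine (mul_comm _ _).trans ?_
    rw [← mul_assoc, h2, Units.mul_inv]

end Coeff

end Groth.Agent.Pic13.H948.CocRing
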