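import Groth.Agent.Pic13.H948.CocGen
import Mathlib.LinearAlgebra.TensorProduct.Basis

/-!
# Unit 1- and 2-cocycles are coboundaries over a smooth surjective algebra

`B` a ring, `D` a finite projective faithfully flat `B`-algebra, `C` a finite projective `B`-algebra.
Cocycles and cochains are given functionally: `z a b ∈ (C ⊗ W)ˣ` for `a b : D →ₐ[B] W`, natural in `W`.
-/

set_option autoImplicit false
universe u

open TensorProduct

namespace Groth.Agent.Pic13.H948.CocSmooth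

open Groth.Agent.Pic13.H948.UnitSol Groth.Agent.Pic13.H948.CocLift Groth.Agent.Pic13.H948.CocRing
open Groth.Agent.Pic13.H948.CocGen

/-- the tensor powers of a finite projective algebra, as opaque rings -/
structure Pow (B : Type u) [CommRing B] (D : Type u) [CommRing D] [Algebra B D] where
  /-- double power -/
  E2 : Type u
  /-- triple power -/
  E3 : Type u
  /-- fourfold power -/
  E4 : Type u
  [r2 : CommRing E2]
  [r3 : CommRing E3]
  [r4 : CommRing E4]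
  [b2 : Algebra B E2]
  [b3 : Algebra B E3]
  [b4 : Algebra B E4]
  fin2 : Module.Finite B E2
  fin3 : Module.Finite B E3
  proj2 : Module.Projective B E2
  proj3 : Module.Projective B E3
  /-- coordinates -/
  i1 : D →ₐ[B] E2
  /-- coordinates -/
  i2 : D →ₐ[B] E2
  /-- coordinates -/
  j1 : D →ₐ[B] E3
  /-- coordinates -/
  j2 : D →ₐ[B] E3
  /-- coordinates -/
  j3 : D →ₐ[B] E3
  /-- coordinates -/
  k1 : D →ₐ[B] E4
  /-- coordinates -/
  k2 : D →ₐ[B] E4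
  /-- coordinates -/
  k3 : D →ₐ[B] E4
  /-- coordinates -/
  k4 : D →ₐ[B] E4
  /-- lifts -/
  l2 : ∀ {W : Type u} [CommRing W] [Algebra B W], (D →ₐ[B] W) → (D →ₐ[B] W) → (E2 →ₐ[B] W)
  /-- lifts -/
  l3 : ∀ {W : Type u} [CommRing W] [Algebra B W], (D →ₐ[B] W) → (D →ₐ[B] W) → (D →ₐ[B] W) →
    (E3 →ₐ[B] W)
  /-- lifts -/
  l4 : ∀ {W : Type u} [CommRing W] [Algebra B W], (D →ₐ[B] W) → (D →ₐ[B] W) → (D →ₐ[B] W) →
    (D →ₐ[B] W) → (E4 →ₐ[B] W)
  l21 : ∀ {W : Type u} [CommRing W] [Algebra B W] (a b : D →ₐ[B] W), (l2 a b).comp i1 = a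
  l22 : ∀ {W : Type u} [CommRing W] [Algebra B W] (a b : D →ₐ[B] W), (l2 a b).comp i2 = b
  l31 : ∀ {W : Type u} [CommRing W] [Algebra B W] (a b c : D →ₐ[B] W), (l3 a b c).comp j1 = a
  l32 : ∀ {W : Type u} [CommRing W] [Algebra B W] (a b c : D →ₐ[B] W), (l3 a b c).comp j2 = b
  l33 : ∀ {W : Type u} [CommRing W] [Algebra B W] (a b c : D →ₐ[B] W), (l3 a b c).comp j3 = c
  l41 : ∀ {W : Type u} [CommRing W] [Algebra B W] (a b c d : D →ₐ[B] W), (l4 a b c d).comp k1 = a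
  l42 : ∀ {W : Type u} [CommRing W] [Algebra B W] (a b c d : D →ₐ[B] W), (l4 a b c d).comp k2 = b
  l43 : ∀ {W : Type u} [CommRing W] [Algebra B W] (a b c d : D →ₐ[B] W), (l4 a b c d).comp k3 = c
  l44 : ∀ {W : Type u} [CommRing W] [Algebra B W] (a b c d : D →ₐ[B] W), (l4 a b c d).comp k4 = d
  ext2 : ∀ {W : Type u} [CommRing W] [Algebra B W] {f g : E2 →ₐ[B] W},
    f.comp i1 = g.comp i1 → f.comp i2 = g.comp i2 → f = g
  ext3 : ∀ {W : Type u} [CommRing W] [Algebra B W] {f g : E3 →ₐ[B] W},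
    f.comp j1 = g.comp j1 → f.comp j2 = g.comp j2 → f.comp j3 = g.comp j3 → f = g
  /-- contraction -/
  s2 : E2 →ₗ[B] D
  /-- contraction -/
  s3 : E3 →ₗ[B] E2
  /-- contraction -/
  s4 : E4 →ₗ[B] E3
  s3_12 : s3 ∘ₗ (l2 j1 j2).toLinearMap = LinearMap.id
  s3_23 : s3 ∘ₗ (l2 j2 j3).toLinearMap = i2.toLinearMap ∘ₗ s2
  s3_13 : s3 ∘ₗ (l2 j1 j3).toLinearMap = i1.toLinearMap ∘ₗ s2
  s4_123 : s4 ∘ₗ (l3 k1 k2 k3).toLinearMap = LinearMap.id
  s4_234 : s4 ∘ₗ (l3 k2 k3 k4).toLinearMap = (l2 j2 j3).toLinearMap ∘ₗ s3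
  s4_134 : s4 ∘ₗ (l3 k1 k3 k4).toLinearMap = (l2 j1 j3).toLinearMap ∘ₗ s3
  s4_124 : s4 ∘ₗ (l3 k1 k2 k4).toLinearMap = (l2 j1 j2).toLinearMap ∘ₗ s3

attribute [instance] Pow.r2 Pow.r3 Pow.r4 Pow.b2 Pow.b3 Pow.b4 Pow.fin2 Pow.fin3 Pow.proj2 Pow.proj3

variable {B : Type u} [CommRing B] {C D : Type u} [CommRing C] [CommRing D] [Algebra B C] [Algebra B D]

theorem exists_pow [Module.Finite B D] [Module.Projective B D] [Module.FaithfullyFlat B D] :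
    Nonempty (Pow B D) := by
  obtain ⟨σ, hσ⟩ := exists_retraction B D
  have f2 : Module.Finite B (D2 B D) := inferInstance
  have p2 : Module.Projective B (D2 B D) := inferInstance
  have f3 : Module.Finite B (D3 B D) := inferInstance
  have p3 : Module.Projective B (D3 B D) := inferInstance
  exact ⟨{
    E2 := D2 B D
    E3 := D3 B D
    E4 := D4 B D
    fin2 := f2
    fin3 := f3
    proj2 := p2
    proj3 := p3
    i1 := i21 B D
    i2 := i22 B D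
    j1 := i31 B D
    j2 := i32 B D
    j3 := i33 B D
    k1 := i41 B D
    k2 := i42 B D
    k3 := i43 B D
    k4 := i44 B D
    l2 := fun {W} _ _ => CocRing.l2 (W := W)
    l3 := fun {W} _ _ => CocRing.l3 (W := W)
    l4 := fun {W} _ _ => CocRing.l4 (W := W)
    l21 := fun {W} _ _ => l2_i21 (W := W)
    l22 := fun {W} _ _ => l2_i22 (W := W)
    l31 := fun {W} _ _ => l3_i31 (W := W)
    l32 := fun {W} _ _ => l3_i32 (W := W)
    l33 := fun {W} _ _ => l3_i33 (W := W)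
    l41 := fun {W} _ _ => l4_i41 (W := W)
    l42 := fun {W} _ _ => l4_i42 (W := W)
    l43 := fun {W} _ _ => l4_i43 (W := W)
    l44 := fun {W} _ _ => l4_i44 (W := W)
    ext2 := fun {W} _ _ _ _ => CocRing.ext2 (W := W)
    ext3 := fun {W} _ _ _ _ => CocRing.ext3 (W := W)
    s2 := S2 σ
    s3 := S3 σ
    s4 := S4 σ
    s3_12 := S3_d12 hσ
    s3_23 := S3_d23
    s3_13 := S3_d13
    s4_123 := S4_e123 hσ
    s4_234 := S4_e234
    s4_134 := S4_e134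
    s4_124 := S4_e124 }⟩

namespace Pow

variable (p : Pow B D)

theorem comp_l2 {W W' : Type u} [CommRing W] [Algebra B W] [CommRing W'] [Algebra B W']
    (f : W →ₐ[B] W') (a b : D →ₐ[B] W) : f.comp (p.l2 a b) = p.l2 (f.comp a) (f.comp b) :=
  p.ext2 (by rw [AlgHom.comp_assoc, p.l21, p.l21]) (by rw [AlgHom.comp_assoc, p.l22, p.l22])

theorem comp_l3 {W W' : Type u} [CommRing W] [Algebra B W] [CommRing W'] [Algebra B W']
    (f : W →ₐ[B] W') (a b c : D →ₐ[B] W) :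
    f.comp (p.l3 a b c) = p.l3 (f.comp a) (f.comp b) (f.comp c) :=
  p.ext3 (by rw [AlgHom.comp_assoc, p.l31, p.l31]) (by rw [AlgHom.comp_assoc, p.l32, p.l32])
    (by rw [AlgHom.comp_assoc, p.l33, p.l33])

theorem l2_self : p.l2 p.i1 p.i2 = AlgHom.id B _ :=
  p.ext2 (by rw [p.l21]; rfl) (by rw [p.l22]; rfl)

theorem l3_self : p.l3 p.j1 p.j2 p.j3 = AlgHom.id B _ :=
  p.ext3 (by rw [p.l31]; rfl) (by rw [p.l32]; rfl) (by rw [p.l33]; rfl)

section Pts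

variable {Ω : Type u} [CommRing Ω] [Algebra B Ω] (s : D →ₐ[B] Ω)

/-- evaluation of the last variable -/
noncomputable def q2 : p.E2 →ₐ[B] Ω ⊗[B] D :=
  p.l2 Algebra.TensorProduct.includeRight ((Algebra.TensorProduct.includeLeft : Ω →ₐ[B] Ω ⊗[B] D).comp s)

/-- evaluation of the last variable -/
noncomputable def q3 : p.E3 →ₐ[B] Ω ⊗[B] p.E2 :=
  p.l3 ((Algebra.TensorProduct.includeRight : p.E2 →ₐ[B] Ω ⊗[B] p.E2).comp p.i1)
    ((Algebra.TensorProduct.includeRight : p.E2 →ₐ[B] Ω ⊗[B] p.E2).comp p.i2)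
    ((Algebra.TensorProduct.includeLeft : Ω →ₐ[B] Ω ⊗[B] p.E2).comp s)

/-- evaluation of the last variable -/
noncomputable def q4 : p.E4 →ₐ[B] Ω ⊗[B] p.E3 :=
  p.l4 ((Algebra.TensorProduct.includeRight : p.E3 →ₐ[B] Ω ⊗[B] p.E3).comp p.j1)
    ((Algebra.TensorProduct.includeRight : p.E3 →ₐ[B] Ω ⊗[B] p.E3).comp p.j2)
    ((Algebra.TensorProduct.includeRight : p.E3 →ₐ[B] Ω ⊗[B] p.E3).comp p.j3)
    ((Algebra.TensorProduct.includeLeft : Ω →ₐ[B] Ω ⊗[B] p.E3).comp s)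

variable {E E' : Type u} [CommRing E] [Algebra B E] [CommRing E'] [Algebra B E']

omit p in
theorem map_incR (f : E →ₐ[B] E') :
    (Algebra.TensorProduct.map (AlgHom.id B Ω) f).comp
      (Algebra.TensorProduct.includeRight : E →ₐ[B] Ω ⊗[B] E) =
    (Algebra.TensorProduct.includeRight : E' →ₐ[B] Ω ⊗[B] E').comp f := by
  ext x; simp

omit p in
theorem map_incL (f : E →ₐ[B] E') :
    (Algebra.TensorProduct.map (AlgHom.id B Ω) f).comp
      (Algebra.TensorProduct.includeLeft : Ω →ₐ[B] Ω ⊗[B] E) =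
    (Algebra.TensorProduct.includeLeft : Ω →ₐ[B] Ω ⊗[B] E') := by
  ext x; simp

theorem q3_12 : (p.q3 s).comp (p.l2 p.j1 p.j2) = Algebra.TensorProduct.includeRight := by
  rw [comp_l2, q3, p.l31, p.l32, ← comp_l2, l2_self, AlgHom.comp_id]

theorem q3_23 : (p.q3 s).comp (p.l2 p.j2 p.j3) =
    (Algebra.TensorProduct.map (AlgHom.id B Ω) p.i2).comp (p.q2 s) := by
  rw [comp_l2, q3, p.l32, p.l33, q2, comp_l2, map_incR, ← AlgHom.comp_assoc, map_incL]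

theorem q3_13 : (p.q3 s).comp (p.l2 p.j1 p.j3) =
    (Algebra.TensorProduct.map (AlgHom.id B Ω) p.i1).comp (p.q2 s) := by
  rw [comp_l2, q3, p.l31, p.l33, q2, comp_l2, map_incR, ← AlgHom.comp_assoc, map_incL]

theorem q4_123 : (p.q4 s).comp (p.l3 p.k1 p.k2 p.k3) = Algebra.TensorProduct.includeRight := by
  rw [comp_l3, q4, p.l41, p.l42, p.l43, ← comp_l3, l3_self, AlgHom.comp_id]

theorem q4_gen (f : p.E2 →ₐ[B] p.E3) : (p.l3 ((Algebra.TensorProduct.includeRight : p.E3 →ₐ[B] Ω ⊗[B] p.E3).comp (f.comp p.i1))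
    ((Algebra.TensorProduct.includeRight : p.E3 →ₐ[B] Ω ⊗[B] p.E3).comp (f.comp p.i2))
    ((Algebra.TensorProduct.includeLeft : Ω →ₐ[B] Ω ⊗[B] p.E3).comp s)) =
    (Algebra.TensorProduct.map (AlgHom.id B Ω) f).comp (p.q3 s) := by
  have e1 : ∀ x : D →ₐ[B] p.E2, (Algebra.TensorProduct.map (AlgHom.id B Ω) f).comp
      ((Algebra.TensorProduct.includeRight : p.E2 →ₐ[B] Ω ⊗[B] p.E2).comp x) =
      (Algebra.TensorProduct.includeRight : p.E3 →ₐ[B] Ω ⊗[B] p.E3).comp (f.comp x) := by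
    intro x
    rw [← AlgHom.comp_assoc, map_incR, AlgHom.comp_assoc]
  have e2 : ∀ x : D →ₐ[B] Ω, (Algebra.TensorProduct.map (AlgHom.id B Ω) f).comp
      ((Algebra.TensorProduct.includeLeft : Ω →ₐ[B] Ω ⊗[B] p.E2).comp x) =
      (Algebra.TensorProduct.includeLeft : Ω →ₐ[B] Ω ⊗[B] p.E3).comp x := by
    intro x
    rw [← AlgHom.comp_assoc, map_incL]
  rw [q3, comp_l3, e1, e1, e2]

theorem q4_234 : (p.q4 s).comp (p.l3 p.k2 p.k3 p.k4) =
    (Algebra.TensorProduct.map (AlgHom.id B Ω) (p.l2 p.j2 p.j3)).comp (p.q3 s) := by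
  rw [← q4_gen, comp_l3, q4, p.l42, p.l43, p.l44, p.l21, p.l22]

theorem q4_134 : (p.q4 s).comp (p.l3 p.k1 p.k3 p.k4) =
    (Algebra.TensorProduct.map (AlgHom.id B Ω) (p.l2 p.j1 p.j3)).comp (p.q3 s) := by
  rw [← q4_gen, comp_l3, q4, p.l41, p.l43, p.l44, p.l21, p.l22]

theorem q4_124 : (p.q4 s).comp (p.l3 p.k1 p.k2 p.k4) =
    (Algebra.TensorProduct.map (AlgHom.id B Ω) (p.l2 p.j1 p.j2)).comp (p.q3 s) := by
  rw [← q4_gen, comp_l3, q4, p.l41, p.l42, p.l44, p.l21, p.l22]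

end Pts

end Pow

section Ev

variable {P W W' E E' : Type u} [CommRing P] [Algebra B P] [CommRing W] [Algebra B W]
  [CommRing W'] [Algebra B W'] [CommRing E] [Algebra B E] [CommRing E'] [Algebra B E']

variable (C) in
/-- evaluation of `P ⊗ (C ⊗ E)` at points of `P` and `E` -/
noncomputable def ev (a : P →ₐ[B] W) (e : E →ₐ[B] W) : P ⊗[B] (C ⊗[B] E) →ₐ[B] C ⊗[B] W :=
  Algebra.TensorProduct.lift (Algebra.TensorProduct.includeRight.comp a) (mapC C e)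
    (fun _ _ => Commute.all _ _)

theorem ev_one (a : P →ₐ[B] W) (e : E →ₐ[B] W) (z : C ⊗[B] E) :
    ev C a e ((1 : P) ⊗ₜ[B] z) = mapC C e z := by
  rw [ev, Algebra.TensorProduct.lift_tmul, map_one, one_mul]

theorem ev_mapRC (a : P →ₐ[B] W) (e : E' →ₐ[B] W) (f : E →ₐ[B] E') (x : P ⊗[B] (C ⊗[B] E)) :
    ev C a e (mapRC C P f x) = ev C a (e.comp f) x := by
  induction x using TensorProduct.induction_on with
  | zero => simp
  | tmul r m =>
    simp only [ev, Algebra.TensorProduct.map_tmul, Algebra.TensorProduct.lift_tmul]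
    rw [mapC_comp]
    rfl
  | add x y hx hy => simp only [map_add, hx, hy]

theorem mapC_ev (φ : W →ₐ[B] W') (a : P →ₐ[B] W) (e : E →ₐ[B] W) (x : P ⊗[B] (C ⊗[B] E)) :
    mapC C φ (ev C a e x) = ev C (φ.comp a) (φ.comp e) x := by
  induction x using TensorProduct.induction_on with
  | zero => simp
  | tmul r m =>
    simp only [ev, Algebra.TensorProduct.lift_tmul, map_mul]
    rw [mapC_comp]
    simp
  | add x y hx hy => simp only [map_add, hx, hy]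

variable (C) in
/-- functoriality on units -/
noncomputable def umC (φ : W →ₐ[B] W') : (C ⊗[B] W)ˣ →* (C ⊗[B] W')ˣ :=
  Units.map (mapC C φ : C ⊗[B] W →* C ⊗[B] W')

@[simp] theorem umC_val (φ : W →ₐ[B] W') (z : (C ⊗[B] W)ˣ) :
    (umC C φ z : C ⊗[B] W') = mapC C φ (z : C ⊗[B] W) := rfl

variable (C) in
/-- evaluation on units -/
noncomputable def uev (a : P →ₐ[B] W) (e : E →ₐ[B] W) : (P ⊗[B] (C ⊗[B] E))ˣ →* (C ⊗[B] W)ˣ :=
  Units.map (ev C a e : P ⊗[B] (C ⊗[B] E) →* C ⊗[B] W)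

@[simp] theorem uev_val (a : P →ₐ[B] W) (e : E →ₐ[B] W) (z : (P ⊗[B] (C ⊗[B] E))ˣ) :
    (uev C a e z : C ⊗[B] W) = ev C a e (z : P ⊗[B] (C ⊗[B] E)) := rfl

end Ev

variable [Module.Finite B D] [Module.Projective B D] [Module.FaithfullyFlat B D]
  [Module.Finite B C] [Module.Projective B C]

/-- functional 1-cocycles with values in units become coboundaries over a smooth surjective algebra -/
theorem exists_smooth1
    (z : ∀ {W : Type u} [CommRing W] [Algebra B W], (D →ₐ[B] W) → (D →ₐ[B] W) → (C ⊗[B] W)ˣ)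
    (nat : ∀ {W W' : Type u} [CommRing W] [Algebra B W] [CommRing W'] [Algebra B W'] (φ : W →ₐ[B] W')
      (a b : D →ₐ[B] W), umC C φ (z a b) = z (φ.comp a) (φ.comp b))
    (coc : ∀ {W : Type u} [CommRing W] [Algebra B W] (a b c : D →ₐ[B] W), z a b * z b c = z a c) :
    ∃ (P : Type u) (_ : CommRing P) (_ : Algebra B P), Algebra.Smooth B P ∧
      Function.Surjective (PrimeSpectrum.comap (algebraMap B P)) ∧
      ∃ y : ∀ {W : Type u} [CommRing W] [Algebra B W], (P →ₐ[B] W) → (D →ₐ[B] W) → (C ⊗[B] W)ˣ,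
        (∀ {W W' : Type u} [CommRing W] [Algebra B W] [CommRing W'] [Algebra B W'] (φ : W →ₐ[B] W')
          (t : P →ₐ[B] W) (a : D →ₐ[B] W), umC C φ (y t a) = y (φ.comp t) (φ.comp a)) ∧
        ∀ {W : Type u} [CommRing W] [Algebra B W] (t : P →ₐ[B] W) (a b : D →ₐ[B] W),
          z a b * y t b = y t a := by
  obtain ⟨p⟩ := exists_pow (B := B) (D := D)
  let z₀ : (C ⊗[B] p.E2)ˣ := z p.i1 p.i2
  have hz₀ : ∀ {W : Type u} [CommRing W] [Algebra B W] (a b : D →ₐ[B] W),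
      mapC C (p.l2 a b) (z₀ : C ⊗[B] p.E2) = (z a b : C ⊗[B] W) := by
    intro W _ _ a b
    have h := congrArg Units.val (nat (p.l2 a b) p.i1 p.i2)
    rw [p.l21, p.l22] at h
    exact h
  have hcoc : mapC C (p.l2 p.j1 p.j2) (z₀ : C ⊗[B] p.E2) * mapC C (p.l2 p.j2 p.j3) (z₀ : C ⊗[B] p.E2) =
      mapC C (p.l2 p.j1 p.j3) (z₀ : C ⊗[B] p.E2) := by
    rw [hz₀, hz₀, hz₀]
    exact congrArg Units.val (coc p.j1 p.j2 p.j3)
  obtain ⟨P, i1, i2, h1, h2, y, hy⟩ := exists_smooth (eq1 p.i1 p.i2 z₀)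
    (lifts1 p.i1 p.i2 (p.l2 p.j1 p.j2) (p.l2 p.j2 p.j3) (p.l2 p.j1 p.j3)
      (by rw [p.l21, p.l21]) (by rw [p.l22, p.l21]) (by rw [p.l22, p.l22])
      p.s2 p.s3 p.s3_12 p.s3_23 p.s3_13 z₀ hcoc)
    (pts1 p.i1 p.i2 (p.l2 p.j1 p.j2) (p.l2 p.j2 p.j3) (p.l2 p.j1 p.j3) z₀ hcoc fun Ω _ _ _ => by
      obtain ⟨s⟩ := exists_algHom B D Ω
      exact ⟨p.q2 s, p.q3 s, p.q3_12 s, p.q3_23 s, p.q3_13 s⟩)
  refine ⟨P, i1, i2, h1, h2, fun {W} _ _ t a => uev C t a y, ?_, ?_⟩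
  · intro W W' _ _ _ _ φ t a
    exact Units.ext (mapC_ev φ t a _)
  · intro W _ _ t a b
    refine Units.ext ?_
    change (z a b : C ⊗[B] W) * ev C t b (y : P ⊗[B] (C ⊗[B] D)) = ev C t a (y : P ⊗[B] (C ⊗[B] D))
    have h := congrArg (ev C t (p.l2 a b)) (sub_eq_zero.mp hy)
    rw [map_mul, ev_one, ev_mapRC, ev_mapRC, p.l21, p.l22, hz₀] at h
    exact h

/-- functional 2-cocycles with values in units become coboundaries over a smooth surjective algebra -/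
theorem exists_smooth2
    (z : ∀ {W : Type u} [CommRing W] [Algebra B W], (D →ₐ[B] W) → (D →ₐ[B] W) → (D →ₐ[B] W) →
      (C ⊗[B] W)ˣ)
    (nat : ∀ {W W' : Type u} [CommRing W] [Algebra B W] [CommRing W'] [Algebra B W'] (φ : W →ₐ[B] W')
      (a b c : D →ₐ[B] W), umC C φ (z a b c) = z (φ.comp a) (φ.comp b) (φ.comp c))
    (coc : ∀ {W : Type u} [CommRing W] [Algebra B W] (a b c d : D →ₐ[B] W),
      z b c d * z a b d = z a c d * z a b c) :
    ∃ (P : Type u) (_ : CommRing P) (_ : Algebra B P), Algebra.Smooth B P ∧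
      Function.Surjective (PrimeSpectrum.comap (algebraMap B P)) ∧
      ∃ y : ∀ {W : Type u} [CommRing W] [Algebra B W], (P →ₐ[B] W) → (D →ₐ[B] W) → (D →ₐ[B] W) →
          (C ⊗[B] W)ˣ,
        (∀ {W W' : Type u} [CommRing W] [Algebra B W] [CommRing W'] [Algebra B W'] (φ : W →ₐ[B] W')
          (t : P →ₐ[B] W) (a b : D →ₐ[B] W),
          umC C φ (y t a b) = y (φ.comp t) (φ.comp a) (φ.comp b)) ∧
        ∀ {W : Type u} [CommRing W] [Algebra B W] (t : P →ₐ[B] W) (a b c : D →ₐ[B] W),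
          z a b c * y t a c = y t b c * y t a b := by
  obtain ⟨p⟩ := exists_pow (B := B) (D := D)
  let z₀ : (C ⊗[B] p.E3)ˣ := z p.j1 p.j2 p.j3
  have hz₀ : ∀ {W : Type u} [CommRing W] [Algebra B W] (a b c : D →ₐ[B] W),
      mapC C (p.l3 a b c) (z₀ : C ⊗[B] p.E3) = (z a b c : C ⊗[B] W) := by
    intro W _ _ a b c
    have h := congrArg Units.val (nat (p.l3 a b c) p.j1 p.j2 p.j3)
    rw [p.l31, p.l32, p.l33] at h
    exact h
  have hcoc : mapC C (p.l3 p.k2 p.k3 p.k4) (z₀ : C ⊗[B] p.E3) *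
      mapC C (p.l3 p.k1 p.k2 p.k4) (z₀ : C ⊗[B] p.E3) =
      mapC C (p.l3 p.k1 p.k3 p.k4) (z₀ : C ⊗[B] p.E3) *
      mapC C (p.l3 p.k1 p.k2 p.k3) (z₀ : C ⊗[B] p.E3) := by
    rw [hz₀, hz₀, hz₀, hz₀]
    exact congrArg Units.val (coc p.k1 p.k2 p.k3 p.k4)
  obtain ⟨P, i1, i2, h1, h2, y, hy⟩ := exists_smooth (eq2 (p.l2 p.j2 p.j3) (p.l2 p.j1 p.j3)
      (p.l2 p.j1 p.j2) z₀)
    (lifts2 _ _ _ (p.l3 p.k2 p.k3 p.k4) (p.l3 p.k1 p.k3 p.k4) (p.l3 p.k1 p.k2 p.k4)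
      (p.l3 p.k1 p.k2 p.k3)
      (by rw [p.comp_l2, p.comp_l2, p.l32, p.l33, p.l32, p.l33])
      (by rw [p.comp_l2, p.comp_l2, p.l31, p.l33, p.l32, p.l33])
      (by rw [p.comp_l2, p.comp_l2, p.l31, p.l32, p.l32, p.l33])
      (by rw [p.comp_l2, p.comp_l2, p.l31, p.l33, p.l31, p.l33])
      (by rw [p.comp_l2, p.comp_l2, p.l31, p.l32, p.l31, p.l33])
      (by rw [p.comp_l2, p.comp_l2, p.l31, p.l32, p.l31, p.l32])
      p.s3 p.s4 p.s4_123 p.s4_234 p.s4_134 p.s4_124 z₀ hcoc)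
    (pts2 _ _ _ (p.l3 p.k2 p.k3 p.k4) (p.l3 p.k1 p.k3 p.k4) (p.l3 p.k1 p.k2 p.k4)
      (p.l3 p.k1 p.k2 p.k3) z₀ hcoc fun Ω _ _ _ => by
      obtain ⟨s⟩ := exists_algHom B D Ω
      exact ⟨p.q3 s, p.q4 s, p.q4_123 s, p.q4_234 s, p.q4_134 s, p.q4_124 s⟩)
  refine ⟨P, i1, i2, h1, h2, fun {W} _ _ t a b => uev C t (p.l2 a b) y, ?_, ?_⟩
  · intro W W' _ _ _ _ φ t a b
    change umC C φ (uev C t (p.l2 a b) y) = uev C (φ.comp t) (p.l2 (φ.comp a) (φ.comp b)) y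
    rw [← p.comp_l2]
    exact Units.ext (mapC_ev φ t _ _)
  · intro W _ _ t a b c
    refine Units.ext ?_
    change (z a b c : C ⊗[B] W) * ev C t (p.l2 a c) (y : P ⊗[B] (C ⊗[B] p.E2)) =
      ev C t (p.l2 b c) (y : P ⊗[B] (C ⊗[B] p.E2)) * ev C t (p.l2 a b) (y : P ⊗[B] (C ⊗[B] p.E2))
    have h := congrArg (ev C t (p.l3 a b c)) (sub_eq_zero.mp hy)
    rw [map_mul, map_mul, ev_one, ev_mapRC, ev_mapRC, ev_mapRC, p.comp_l2, p.comp_l2, p.comp_l2,
      p.l31, p.l32, p.l33, hz₀] at h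
    exact h

end Groth.Agent.Pic13.H948.CocSmooth
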