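import Groth.Agent.Pic13.H138.Finite
import Groth.Prelude.Def_FGA
import Mathlib.GroupTheory.Finiteness
import Mathlib.LinearAlgebra.FreeModule.PID

/-!
# Assembly of the Néron–Severi theorem

* `mk_multiTwist`: the class of a tensor monomial.
* `exists_gens_of_closure`: if finitely many classes generate `Pic X` modulo `alg0 k X`, the conclusion
  of S4282 holds.
* `closure_of_bdd`: if `N` is a bounded subgroup of `Pic X` containing the kernel of a homomorphism
  `Pic X →* Multiplicative (Fin r → ℤ)`, then finitely many classes generate `Pic X` modulo `alg0`.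
* `result_of_bdd`: S4282 from these two facts.
-/

set_option autoImplicit false
universe u

open CategoryTheory CategoryTheory.Limits AlgebraicGeometry

namespace Groth.Agent.Pic13.H948.NSAssembly

open Groth.Agent.Grpsch.PicGrp Groth.Agent.Fdesc.LocGen
open Groth.Agent.Pic13.H138.AlgEquiv Groth.Agent.Pic13.H138.BddPic Groth.Agent.Pic13.H138.Finite

section Gen

variable {X : Scheme.{u}}

theorem isInvertible_tensorList {l : List X.Modules} (hl : ∀ M ∈ l, PicF.IsInvertible M) :
    PicF.IsInvertible (FGA.tensorList l) := by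
  induction l with
  | nil => exact isInvertible_structureModule
  | cons M l ih =>
    exact isInvertible_tensorMod (hl M (by simp)) (ih fun N hN => hl N (by simp [hN]))

theorem isInvertible_multiTwist {n : ℕ} {L : Fin n → X.Modules} (hL : ∀ i, PicF.IsInvertible (L i))
    (a : Fin n → ℕ) : PicF.IsInvertible (FGA.multiTwist L a) := by
  apply isInvertible_tensorList
  intro M hM
  obtain ⟨i, -, rfl⟩ := List.mem_map.1 hM
  exact isInvertible_tensorPow (hL i) _

theorem mk_tensorList {ι : Type*} (l : List ι) (M : ι → X.Modules) (hM : ∀ i, PicF.IsInvertible (M i))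
    (h : PicF.IsInvertible (FGA.tensorList (l.map M))) :
    mk (FGA.tensorList (l.map M)) h = (l.map fun i => mk (M i) (hM i)).prod := by
  induction l with
  | nil => rfl
  | cons i l ih =>
    have h' : PicF.IsInvertible (FGA.tensorList (l.map M)) := isInvertible_tensorList (by
      intro N hN
      obtain ⟨j, -, rfl⟩ := List.mem_map.1 hN
      exact hM j)
    refine Eq.trans ?_ (congrArg (fun c => Grpsch.PicGrp.mk (M i) (hM i) * c) (ih h'))
    rfl

theorem mk_multiTwist {n : ℕ} {L : Fin n → X.Modules} (hL : ∀ i, PicF.IsInvertible (L i))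
    (a : Fin n → ℕ) :
    mk (FGA.multiTwist L a) (isInvertible_multiTwist hL a) = ∏ i, mk (L i) (hL i) ^ a i := by
  have h := mk_tensorList (List.finRange n) (fun i => CohB1.tensorPow (L i) (a i))
    (fun i => isInvertible_tensorPow (hL i) _) (isInvertible_multiTwist hL a)
  refine h.trans ?_
  rw [← List.ofFn_eq_map, List.prod_ofFn]
  exact Finset.prod_congr rfl fun i _ => mk_tensorPow (hL i) (a i)

end Gen

section Algebra

variable {G : Type*} [CommGroup G]

/-- Elements of the subgroup generated by a finite family. -/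
theorem exists_zpow_of_mem_closure {p : ℕ} (g : Fin p → G) {x : G}
    (hx : x ∈ Subgroup.closure (Set.range g)) : ∃ n : Fin p → ℤ, x = ∏ i, g i ^ n i := by
  induction hx using Subgroup.closure_induction with
  | mem y hy =>
    obtain ⟨j, rfl⟩ := hy
    classical
    refine ⟨Pi.single j 1, ?_⟩
    rw [Finset.prod_eq_single j]
    · simp
    · intro i _ hij
      simp [Pi.single_eq_of_ne hij]
    · intro h; exact absurd (Finset.mem_univ j) h
  | one => exact ⟨0, by simp⟩
  | mul y z _ _ hy hz =>
    obtain ⟨n, rfl⟩ := hy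
    obtain ⟨m, rfl⟩ := hz
    refine ⟨n + m, ?_⟩
    rw [← Finset.prod_mul_distrib]
    exact Finset.prod_congr rfl fun i _ => by rw [Pi.add_apply, zpow_add]
  | inv y _ hy =>
    obtain ⟨n, rfl⟩ := hy
    refine ⟨-n, ?_⟩
    rw [← Finset.prod_inv_distrib]
    exact Finset.prod_congr rfl fun i _ => by rw [Pi.neg_apply, zpow_neg]

/-- A homomorphism to `ℤ^r`: finitely many elements generate modulo the kernel. -/
theorem exists_finite_gen {r : ℕ} (φ : G →* Multiplicative (Fin r → ℤ)) :
    ∃ s : Set G, s.Finite ∧ ∀ a : G, ∃ b ∈ Subgroup.closure s, φ (a * b⁻¹) = 1 := by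
  have hfg : φ.range.FG := by
    have h : (AddSubgroup.toIntSubmodule (Subgroup.toAddSubgroup'
        (A := Fin r → ℤ) φ.range)).FG := IsNoetherian.noetherian _
    rw [Submodule.fg_iff_addSubgroup_fg] at h
    rw [Subgroup.fg_iff_add_fg]
    exact h
  obtain ⟨t, ht, htf⟩ := (Subgroup.fg_iff _).mp hfg
  have hsub : t ⊆ Set.range φ := fun x hx => by
    have : x ∈ φ.range := ht ▸ Subgroup.subset_closure hx
    exact this
  obtain ⟨s, hs, hst⟩ := Set.subset_range_iff_exists_image_eq.mp hsub |>.imp fun s h => (⟨h, h⟩ : _ ∧ _)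
  obtain ⟨s', hs's, hbij⟩ := Set.exists_subset_bijOn s φ
  refine ⟨s', Set.Finite.of_finite_image (f := φ) ?_ hbij.injOn, fun a => ?_⟩
  · rw [hbij.image_eq, hst]; exact htf
  · have ha : φ a ∈ Subgroup.closure t := by rw [ht]; exact ⟨a, rfl⟩
    rw [← hst, ← hbij.image_eq, ← MonoidHom.map_closure] at ha
    obtain ⟨b, hb, hab⟩ := ha
    exact ⟨b, hb, by rw [map_mul, map_inv, hab, mul_inv_cancel]⟩

end Algebra

section Main

variable {k : Type u} [Field k] [IsAlgClosed k] {X : Scheme.{u}} [X.Over (Spec (CommRingCat.of k))]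

/-- If a finite set of classes generates `Pic X` modulo `alg0 k X`, then the conclusion of S4282 holds. -/
theorem exists_gens_of_closure {s : Set (Pic X)} (hs : s.Finite)
    (h : ∀ a : Pic X, ∃ b ∈ Subgroup.closure s, a * b⁻¹ ∈ alg0 k X) :
    ∃ (p : ℕ) (G : Fin p → X.Modules), (∀ j, PicF.IsInvertible (G j)) ∧
      ∀ L : X.Modules, PicF.IsInvertible L → ∃ (a b : Fin p → ℕ) (M : X.Modules), PicF.IsInvertible M ∧
        Pic13.IsAlgEquivZero k X M ∧
        Nonempty (CohB1.tensorMod L (FGA.multiTwist G b) ≅ CohB1.tensorMod (FGA.multiTwist G a) M) := by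
  have := hs.fintype
  obtain ⟨p, ⟨e⟩⟩ : ∃ p : ℕ, Nonempty (Fin p ≃ s) := ⟨Fintype.card s, ⟨(Fintype.equivFin s).symm⟩⟩
  choose G hG hGs using fun j => exists_mk (e j : Pic X)
  have hrange : Set.range (fun j => mk (G j) (hG j)) = s := by
    ext x
    constructor
    · rintro ⟨j, rfl⟩
      change mk (G j) (hG j) ∈ s
      rw [← hGs j]
      exact (e j).2
    · intro hx
      refine ⟨e.symm ⟨x, hx⟩, ?_⟩
      change mk (G _) (hG _) = x
      rw [← hGs, Equiv.apply_symm_apply]
  refine ⟨p, G, hG, fun L hL => ?_⟩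
  obtain ⟨b, hb, hab⟩ := h (mk L hL)
  rw [← hrange] at hb
  obtain ⟨n, hn⟩ := exists_zpow_of_mem_closure _ hb
  obtain ⟨M, hM, hMm⟩ := exists_mk (mk L hL * b⁻¹)
  refine ⟨fun i => (n i).toNat, fun i => (-(n i)).toNat, M, hM, ?_, ?_⟩
  · rw [isAlgEquivZero_iff_mem hM, ← hMm]
    exact hab
  · refine (mk_eq_iff (isInvertible_tensorMod hL (isInvertible_multiTwist hG fun i => (-(n i)).toNat))
      (isInvertible_tensorMod (isInvertible_multiTwist hG fun i => (n i).toNat) hM)).mp ?_
    have h1 : mk L hL * mk _ (isInvertible_multiTwist hG fun i => (-(n i)).toNat) =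
        mk _ (isInvertible_multiTwist hG fun i => (n i).toNat) * mk M hM := by
      rw [mk_multiTwist hG, mk_multiTwist hG, ← hMm, hn]
      have h2 : (∏ i, mk (G i) (hG i) ^ (n i).toNat) =
          (∏ i, mk (G i) (hG i) ^ n i) * ∏ i, mk (G i) (hG i) ^ (-(n i)).toNat := by
        rw [← Finset.prod_mul_distrib]
        refine Finset.prod_congr rfl fun i _ => ?_
        rw [← zpow_natCast, ← zpow_natCast, ← zpow_add]
        congr 1
        omega
      rw [h2]
      generalize (∏ i, mk (G i) (hG i) ^ n i) = x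
      generalize (∏ i, mk (G i) (hG i) ^ (-(n i)).toNat) = y
      rw [mul_comm x y, mul_assoc, mul_comm (mk L hL) x⁻¹, mul_inv_cancel_left, mul_comm]
    exact h1

/-- Finite generation modulo `alg0`, from a bounded subgroup `N` and a homomorphism to `ℤ^r` whose kernel
is contained in `N`. -/
theorem closure_of_bdd {N : Subgroup (Pic X)} (hN : BddPic k X (N : Set (Pic X))) {r : ℕ}
    (φ : Pic X →* Multiplicative (Fin r → ℤ)) (hφ : ∀ a, φ a = 1 → a ∈ N) :
    ∃ s : Set (Pic X), s.Finite ∧ ∀ a : Pic X, ∃ b ∈ Subgroup.closure s, a * b⁻¹ ∈ alg0 k X := by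
  obtain ⟨s, hs, h⟩ := exists_finite_gen φ
  obtain ⟨t, ht, -, htN⟩ := exists_finite hN
  refine ⟨s ∪ t, hs.union ht, fun a => ?_⟩
  obtain ⟨b, hb, hab⟩ := h a
  obtain ⟨c, hc, hcN⟩ := htN (a * b⁻¹) (hφ _ hab)
  refine ⟨c * b, mul_mem (Subgroup.subset_closure (Or.inr hc))
    (Subgroup.closure_mono Set.subset_union_left hb), ?_⟩
  have := algEq_iff_mem.mp hcN.symm
  rwa [mul_inv, mul_comm c⁻¹, ← mul_assoc]

/-- S4282 from a bounded subgroup containing the kernel of a homomorphism to `ℤ^r`. -/
theorem result_of_bdd {N : Subgroup (Pic X)} (hN : BddPic k X (N : Set (Pic X))) {r : ℕ}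
    (φ : Pic X →* Multiplicative (Fin r → ℤ)) (hφ : ∀ a, φ a = 1 → a ∈ N) :
    ∃ (p : ℕ) (G : Fin p → X.Modules), (∀ j, PicF.IsInvertible (G j)) ∧
      ∀ L : X.Modules, PicF.IsInvertible L → ∃ (a b : Fin p → ℕ) (M : X.Modules), PicF.IsInvertible M ∧
        Pic13.IsAlgEquivZero k X M ∧
        Nonempty (CohB1.tensorMod L (FGA.multiTwist G b) ≅ CohB1.tensorMod (FGA.multiTwist G a) M) := by
  obtain ⟨s, hs, h⟩ := closure_of_bdd hN φ hφ
  exact exists_gens_of_closure hs h

/-- Variant with finitely many homomorphisms to `ℤ`. -/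
theorem result_of_bdd' {N : Subgroup (Pic X)} (hN : BddPic k X (N : Set (Pic X))) {ι : Type*} [Finite ι]
    (d : ι → (Pic X →* Multiplicative ℤ)) (hd : ∀ a, (∀ i, d i a = 1) → a ∈ N) :
    ∃ (p : ℕ) (G : Fin p → X.Modules), (∀ j, PicF.IsInvertible (G j)) ∧
      ∀ L : X.Modules, PicF.IsInvertible L → ∃ (a b : Fin p → ℕ) (M : X.Modules), PicF.IsInvertible M ∧
        Pic13.IsAlgEquivZero k X M ∧
        Nonempty (CohB1.tensorMod L (FGA.multiTwist G b) ≅ CohB1.tensorMod (FGA.multiTwist G a) M) := by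
  obtain ⟨r, ⟨e⟩⟩ := Finite.exists_equiv_fin ι
  let φ : Pic X →* Multiplicative (Fin r → ℤ) :=
    { toFun := fun a => Multiplicative.ofAdd fun i => (d (e.symm i) a).toAdd
      map_one' := by
        apply Multiplicative.toAdd.injective
        funext i
        simp
      map_mul' := fun a b => by
        apply Multiplicative.toAdd.injective
        funext i
        simp }
  refine result_of_bdd hN φ fun a ha => hd a fun i => ?_
  have h1 := congrFun (congrArg Multiplicative.toAdd ha) (e i)
  apply Multiplicative.toAdd.injective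
  simpa [φ] using h1

end Main

end Groth.Agent.Pic13.H948.NSAssembly
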