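import Groth.Agent.Pic13.H948.NSAssembly
import Groth.Agent.Pic13.H950.NumCl

/-!
# S4282 from: numerically trivial classes are bounded, finitely many curves detect numerical triviality
-/

set_option autoImplicit false
universe u

open CategoryTheory CategoryTheory.Limits AlgebraicGeometry

namespace Groth.Agent.Pic13.H948.NSCurves

open Groth.Agent.Grpsch.PicGrp Groth.Agent.Pic13.H138.BddPic Groth.Agent.Pic13.H950.NumCl

variable (k : Type u) [Field k] [IsAlgClosed k] (X : Scheme.{u}) [X.Over (Spec (CommRingCat.of k))]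
  [IsProper (X ↘ Spec (CommRingCat.of k))]

/-- **S4282, conditional form.** -/
theorem result_of (hB : BddPic k X (numCl k X : Set (Pic X)))
    (hcur : ∃ (p : ℕ) (C : Fin p → Curve X), ∀ a : Pic X, (∀ j, dgc k X (C j) a = 0) → a ∈ numCl k X) :
    ∃ (p : ℕ) (G : Fin p → X.Modules), (∀ j, PicF.IsInvertible (G j)) ∧
      ∀ L : X.Modules, PicF.IsInvertible L → ∃ (a b : Fin p → ℕ) (M : X.Modules), PicF.IsInvertible M ∧
        Pic13.IsAlgEquivZero k X M ∧
        Nonempty (CohB1.tensorMod L (FGA.multiTwist G b) ≅ CohB1.tensorMod (FGA.multiTwist G a) M) := by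
  obtain ⟨p, C, hC⟩ := hcur
  exact NSAssembly.result_of_bdd' hB (fun j : Fin p =>
    { toFun := fun a => Multiplicative.ofAdd (dgc k X (C j) a)
      map_one' := by rw [dgc_one]; rfl
      map_mul' := fun a b => by rw [dgc_mul]; rfl }) (fun a ha => hC a fun j =>
        congrArg Multiplicative.toAdd (ha j))

end Groth.Agent.Pic13.H948.NSCurves
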