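import Mathlib.RingTheory.Smooth.Basic
import Mathlib.RingTheory.FinitePresentation
import Mathlib.RingTheory.Finiteness.Projective
import Mathlib.RingTheory.TensorProduct.Maps
import Mathlib.FieldTheory.IsAlgClosed.AlgebraicClosure
import Mathlib.RingTheory.Spectrum.Prime.RingHom
import Mathlib.RingTheory.LocalRing.ResidueField.Ideal

/-!
# Solutions in units of natural equations

`B` a ring, `A` a finite projective `B`-algebra, `N` a finite projective `B`-module,
`F R : (R ⊗ A)ˣ → R ⊗ N` natural in the `B`-algebra `R`. If solutions of `F = 0` lift along square-zero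
extensions and exist over algebraically closed fields, then there is a smooth `B`-algebra `P` with
`Spec P → Spec B` surjective and a solution over `P`.
-/

set_option autoImplicit false
universe u

open TensorProduct

namespace Groth.Agent.Pic13.H948.UnitSol

section Coord

variable {B : Type u} [CommRing B] {M : Type u} [AddCommGroup M] [Module B M]

theorem exists_dualBasis (B : Type u) [CommRing B] (M : Type u) [AddCommGroup M] [Module B M]
    [Module.Finite B M] [Module.Projective B M] :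
    ∃ (n : ℕ) (m : Fin n → M) (c : Fin n → (M →ₗ[B] B)), ∀ x, ∑ i, c i x • m i = x := by
  obtain ⟨n, f, g, -, -, h⟩ := Module.Finite.exists_comp_eq_id_of_projective B M
  refine ⟨n, fun i => f (Pi.single i 1), fun i => LinearMap.proj i ∘ₗ g, fun x => ?_⟩
  have h1 : f (g x) = x := congr($h x)
  conv_rhs => rw [← h1]
  rw [LinearMap.pi_apply_eq_sum_univ f (g x)]
  refine Finset.sum_congr rfl fun i _ => ?_
  change g x i • f (Pi.single i 1) = _
  congr 2
  funext j
  simp [Pi.single_apply, eq_comm]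

/-- The base change of a linear form. -/
noncomputable def coord (R : Type u) [CommRing R] [Algebra B R] (c : M →ₗ[B] B) : R ⊗[B] M →ₗ[R] R :=
  (AlgebraTensorModule.rid B R R).toLinearMap ∘ₗ c.baseChange R

variable (R : Type u) [CommRing R] [Algebra B R]

@[simp] theorem coord_tmul (c : M →ₗ[B] B) (r : R) (m : M) : coord R c (r ⊗ₜ m) = c m • r := rfl

theorem coord_map {R' : Type u} [CommRing R'] [Algebra B R'] (φ : R →ₐ[B] R') (c : M →ₗ[B] B)
    (x : R ⊗[B] M) : coord R' c (φ.toLinearMap.rTensor M x) = φ (coord R c x) := by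
  induction x using TensorProduct.induction_on with
  | zero => simp
  | tmul r m => simp
  | add x y hx hy => rw [map_add, map_add, hx, hy, map_add, map_add]

theorem sum_coord {n : ℕ} {m : Fin n → M} {c : Fin n → (M →ₗ[B] B)} (h : ∀ x, ∑ i, c i x • m i = x)
    (x : R ⊗[B] M) : ∑ i, coord R (c i) x ⊗ₜ[B] m i = x := by
  induction x using TensorProduct.induction_on with
  | zero => simp
  | tmul r y =>
    simp only [coord_tmul]
    conv_rhs => rw [← h y]
    rw [TensorProduct.tmul_sum]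
    exact Finset.sum_congr rfl fun i _ => by rw [TensorProduct.smul_tmul]
  | add x y hx hy =>
    simp only [map_add, TensorProduct.add_tmul, Finset.sum_add_distrib]
    rw [hx, hy]

theorem eq_zero_of_coord {n : ℕ} {m : Fin n → M} {c : Fin n → (M →ₗ[B] B)}
    (h : ∀ x, ∑ i, c i x • m i = x) {x : R ⊗[B] M} (hx : ∀ i, coord R (c i) x = 0) : x = 0 := by
  rw [← sum_coord R h x]
  exact Finset.sum_eq_zero fun i _ => by rw [hx i, TensorProduct.zero_tmul]

end Coord

section Main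

variable {B : Type u} [CommRing B] {A : Type u} [CommRing A] [Algebra B A]

variable (A) in
/-- Base change of the coefficients. -/
noncomputable abbrev bc {R R' : Type u} [CommRing R] [Algebra B R] [CommRing R'] [Algebra B R']
    (φ : R →ₐ[B] R') : R ⊗[B] A →ₐ[B] R' ⊗[B] A := Algebra.TensorProduct.map φ (AlgHom.id B A)

theorem bc_apply {R R' : Type u} [CommRing R] [Algebra B R] [CommRing R'] [Algebra B R']
    (φ : R →ₐ[B] R') (x : R ⊗[B] A) : bc A φ x = φ.toLinearMap.rTensor A x := rfl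

theorem bc_comp {R R' R'' : Type u} [CommRing R] [Algebra B R] [CommRing R'] [Algebra B R']
    [CommRing R''] [Algebra B R''] (φ : R →ₐ[B] R') (ψ : R' →ₐ[B] R'') (x : R ⊗[B] A) :
    bc A (ψ.comp φ) x = bc A ψ (bc A φ x) := by
  induction x using TensorProduct.induction_on with
  | zero => simp
  | tmul r m => simp
  | add x y hx hy => rw [map_add, hx, hy, map_add, map_add]

variable (A) in
/-- Base change on units. -/
noncomputable abbrev ubc {R R' : Type u} [CommRing R] [Algebra B R] [CommRing R'] [Algebra B R']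
    (φ : R →ₐ[B] R') : (R ⊗[B] A)ˣ →* (R' ⊗[B] A)ˣ := Units.map (bc A φ : R ⊗[B] A →* R' ⊗[B] A)

theorem ubc_comp {R R' R'' : Type u} [CommRing R] [Algebra B R] [CommRing R'] [Algebra B R']
    [CommRing R''] [Algebra B R''] (φ : R →ₐ[B] R') (ψ : R' →ₐ[B] R'') (x : (R ⊗[B] A)ˣ) :
    ubc A (ψ.comp φ) x = ubc A ψ (ubc A φ x) := Units.ext (bc_comp φ ψ _)

variable {N : Type u} [AddCommGroup N] [Module B N]

/-- A natural family of maps from units of `R ⊗ A` to `R ⊗ N`. -/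
structure NatEq (B : Type u) [CommRing B] (A : Type u) [CommRing A] [Algebra B A]
    (N : Type u) [AddCommGroup N] [Module B N] where
  F : ∀ (R : Type u) [CommRing R] [Algebra B R], (R ⊗[B] A)ˣ → R ⊗[B] N
  nat : ∀ {R R' : Type u} [CommRing R] [Algebra B R] [CommRing R'] [Algebra B R'] (φ : R →ₐ[B] R')
    (x : (R ⊗[B] A)ˣ), F R' (ubc A φ x) = φ.toLinearMap.rTensor N (F R x)

variable (E : NatEq B A N)

/-- Solutions lift along square-zero extensions. -/
def NatEq.Lifts : Prop := ∀ (R : Type u) [CommRing R] [Algebra B R] (I : Ideal R), I ^ 2 = ⊥ →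
  ∀ x : ((R ⧸ I) ⊗[B] A)ˣ, E.F (R ⧸ I) x = 0 →
    ∃ y : (R ⊗[B] A)ˣ, E.F R y = 0 ∧ ubc A (Ideal.Quotient.mkₐ B I) y = x

/-- Solutions exist over algebraically closed fields. -/
def NatEq.Pts : Prop := ∀ (Ω : Type u) [Field Ω] [IsAlgClosed Ω] [Algebra B Ω],
  ∃ x : (Ω ⊗[B] A)ˣ, E.F Ω x = 0

section Universal

variable {n : ℕ} (m : Fin n → A) (c : Fin n → (A →ₗ[B] B))

/-- the polynomial ring -/
abbrev P0 (B : Type u) [CommRing B] (n : ℕ) : Type u := MvPolynomial (Fin n ⊕ Fin n) B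

/-- universal element and universal candidate for its inverse -/
noncomputable def u0 : P0 B n ⊗[B] A := ∑ i, (MvPolynomial.X (Sum.inl i) : P0 B n) ⊗ₜ[B] m i

/-- universal candidate for the inverse -/
noncomputable def v0 : P0 B n ⊗[B] A := ∑ i, (MvPolynomial.X (Sum.inr i) : P0 B n) ⊗ₜ[B] m i

/-- equations for being mutually inverse -/
noncomputable def J1 : Ideal (P0 B n) :=
  Ideal.span (Set.range fun i => coord (P0 B n) (c i) (u0 m * v0 m - 1))

/-- the ring of the functor of units -/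
def P1 : Type u := P0 B n ⧸ J1 m c

noncomputable instance : CommRing (P1 m c) := inferInstanceAs (CommRing (P0 B n ⧸ J1 m c))

noncomputable instance : Algebra B (P1 m c) := inferInstanceAs (Algebra B (P0 B n ⧸ J1 m c))

/-- the projection -/
noncomputable def mk1 : P0 B n →ₐ[B] P1 m c := Ideal.Quotient.mkₐ B (J1 m c)

theorem mk1_surjective : Function.Surjective (mk1 m c) := Ideal.Quotient.mk_surjective

theorem mk1_eq_zero {a : P0 B n} (ha : a ∈ J1 m c) : mk1 m c a = 0 := Ideal.Quotient.eq_zero_iff_mem.mpr ha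

theorem u1_mul (h : ∀ x, ∑ i, c i x • m i = x) :
    bc A (mk1 m c) (u0 m) * bc A (mk1 m c) (v0 m) = 1 := by
  rw [← map_mul, ← sub_eq_zero, ← map_one (bc A (mk1 m c)), ← map_sub]
  refine eq_zero_of_coord (P1 m c) h fun i => ?_
  rw [bc_apply, coord_map]
  exact mk1_eq_zero m c (Ideal.subset_span ⟨i, rfl⟩)

/-- the universal unit -/
noncomputable def u1 (h : ∀ x, ∑ i, c i x • m i = x) : (P1 m c ⊗[B] A)ˣ where
  val := bc A (mk1 m c) (u0 m)
  inv := bc A (mk1 m c) (v0 m)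
  val_inv := u1_mul m c h
  inv_val := (mul_comm _ _).trans (u1_mul m c h)

theorem bc_u0 {R : Type u} [CommRing R] [Algebra B R] (r : Fin n ⊕ Fin n → R) :
    bc A (MvPolynomial.aeval r) (u0 m) = ∑ i, r (Sum.inl i) ⊗ₜ[B] m i := by
  simp [u0]

theorem bc_v0 {R : Type u} [CommRing R] [Algebra B R] (r : Fin n ⊕ Fin n → R) :
    bc A (MvPolynomial.aeval r) (v0 m) = ∑ i, r (Sum.inr i) ⊗ₜ[B] m i := by
  simp [v0]

/-- every pair of coordinate vectors of a unit and its inverse defines a map from `P1`. -/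
theorem exists_map1 {R : Type u} [CommRing R] [Algebra B R]
    (r : Fin n ⊕ Fin n → R) (hr : (∑ i, r (Sum.inl i) ⊗ₜ[B] m i) * (∑ i, r (Sum.inr i) ⊗ₜ[B] m i) =
      (1 : R ⊗[B] A)) :
    ∃ φ : P1 m c →ₐ[B] R, φ.comp (mk1 m c) = MvPolynomial.aeval r := by
  have hJ : ∀ a ∈ J1 m c, MvPolynomial.aeval r a = 0 := by
    intro a ha
    refine (RingHom.mem_ker (f := (MvPolynomial.aeval r : P0 B n →ₐ[B] R).toRingHom)).mp ?_
    refine (Ideal.span_le.mpr ?_) ha
    rintro _ ⟨i, rfl⟩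
    change MvPolynomial.aeval r (coord (P0 B n) (c i) (u0 m * v0 m - 1)) = 0
    rw [← coord_map, ← bc_apply, map_sub, map_mul, bc_u0, bc_v0, hr, map_one, sub_self, map_zero]
  exact ⟨Ideal.Quotient.liftₐ _ _ hJ, Ideal.Quotient.liftₐ_comp _ _ _⟩

theorem ubc_u1 (h : ∀ x, ∑ i, c i x • m i = x) {R : Type u} [CommRing R] [Algebra B R]
    (r : Fin n ⊕ Fin n → R) (φ : P1 m c →ₐ[B] R)
    (hφ : φ.comp (mk1 m c) = MvPolynomial.aeval r) :
    ((ubc A φ (u1 m c h) : (R ⊗[B] A)ˣ) : R ⊗[B] A) = ∑ i, r (Sum.inl i) ⊗ₜ[B] m i := by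
  change bc A φ (bc A (mk1 m c) (u0 m)) = _
  rw [← bc_comp, hφ, bc_u0]

variable {q : ℕ} (d : Fin q → (N →ₗ[B] B))

/-- the remaining equations -/
noncomputable def J2 (h : ∀ x, ∑ i, c i x • m i = x) : Ideal (P1 m c) :=
  Ideal.span (Set.range fun j => coord (P1 m c) (d j) (E.F (P1 m c) (u1 m c h)))

/-- the ring of the functor of solutions (with redundant coordinates) -/
def P2 (h : ∀ x, ∑ i, c i x • m i = x) : Type u := P1 m c ⧸ J2 E m c d h

noncomputable instance (h : ∀ x, ∑ i, c i x • m i = x) : CommRing (P2 E m c d h) :=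
  inferInstanceAs (CommRing (P1 m c ⧸ J2 E m c d h))

noncomputable instance (h : ∀ x, ∑ i, c i x • m i = x) : Algebra B (P2 E m c d h) :=
  inferInstanceAs (Algebra B (P1 m c ⧸ J2 E m c d h))

/-- the projection -/
noncomputable def mk2 (h : ∀ x, ∑ i, c i x • m i = x) : P1 m c →ₐ[B] P2 E m c d h :=
  Ideal.Quotient.mkₐ B (J2 E m c d h)

theorem mk2_surjective (h : ∀ x, ∑ i, c i x • m i = x) : Function.Surjective (mk2 E m c d h) :=
  Ideal.Quotient.mk_surjective

theorem mk2_eq_zero (h : ∀ x, ∑ i, c i x • m i = x) {a : P1 m c} (ha : a ∈ J2 E m c d h) :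
    mk2 E m c d h a = 0 := Ideal.Quotient.eq_zero_iff_mem.mpr ha

/-- the coordinates of the universal solution -/
noncomputable def xs (h : ∀ x, ∑ i, c i x • m i = x) (s : Fin n ⊕ Fin n) : P2 E m c d h :=
  mk2 E m c d h (mk1 m c (MvPolynomial.X s))

/-- the universal solution -/
noncomputable def u2 (h : ∀ x, ∑ i, c i x • m i = x) : (P2 E m c d h ⊗[B] A)ˣ :=
  ubc A (mk2 E m c d h) (u1 m c h)

theorem F_u2 (h : ∀ x, ∑ i, c i x • m i = x) {k : Fin q → N} (hk : ∀ x, ∑ i, d i x • k i = x) :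
    E.F (P2 E m c d h) (u2 E m c d h) = 0 := by
  refine eq_zero_of_coord (P2 E m c d h) hk fun i => ?_
  rw [u2, E.nat, coord_map]
  exact mk2_eq_zero E m c d h (Ideal.subset_span ⟨i, rfl⟩)

theorem exists_map2 (h : ∀ x, ∑ i, c i x • m i = x) {R : Type u} [CommRing R] [Algebra B R]
    (y : (R ⊗[B] A)ˣ) (hy : E.F R y = 0) (r : Fin n ⊕ Fin n → R)
    (h1 : ∑ i, r (Sum.inl i) ⊗ₜ[B] m i = (y : R ⊗[B] A))
    (h2 : ∑ i, r (Sum.inr i) ⊗ₜ[B] m i = ((y⁻¹ : (R ⊗[B] A)ˣ) : R ⊗[B] A)) :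
    ∃ ψ : P2 E m c d h →ₐ[B] R, ∀ s, ψ (xs E m c d h s) = r s := by
  obtain ⟨φ, hφ⟩ := exists_map1 m c r (by rw [h1, h2, Units.mul_inv])
  have hu : ubc A φ (u1 m c h) = y := Units.ext ((ubc_u1 m c h r φ hφ).trans h1)
  have hJ : ∀ a ∈ J2 E m c d h, φ a = 0 := by
    intro a ha
    refine (RingHom.mem_ker (f := φ.toRingHom)).mp ?_
    refine (Ideal.span_le.mpr ?_) ha
    rintro _ ⟨i, rfl⟩
    change φ (coord (P1 m c) (d i) (E.F (P1 m c) (u1 m c h))) = 0
    rw [← coord_map, ← E.nat, hu, hy, map_zero]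
  refine ⟨Ideal.Quotient.liftₐ _ φ hJ, fun s => ?_⟩
  change φ (mk1 m c (MvPolynomial.X s)) = r s
  have := congrArg (fun g : P0 B n →ₐ[B] R => g (MvPolynomial.X s)) hφ
  simpa using this

theorem ubc_u2 (h : ∀ x, ∑ i, c i x • m i = x) {R : Type u} [CommRing R] [Algebra B R]
    (φ : P2 E m c d h →ₐ[B] R) :
    ((ubc A φ (u2 E m c d h) : (R ⊗[B] A)ˣ) : R ⊗[B] A) =
      ∑ i, φ (xs E m c d h (Sum.inl i)) ⊗ₜ[B] m i := by
  change bc A φ (bc A (mk2 E m c d h) (bc A (mk1 m c) (u0 m))) = _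
  simp [u0, xs]

theorem ubc_u2_inv (h : ∀ x, ∑ i, c i x • m i = x) {R : Type u} [CommRing R] [Algebra B R]
    (φ : P2 E m c d h →ₐ[B] R) :
    (((ubc A φ (u2 E m c d h))⁻¹ : (R ⊗[B] A)ˣ) : R ⊗[B] A) =
      ∑ i, φ (xs E m c d h (Sum.inr i)) ⊗ₜ[B] m i := by
  change bc A φ (bc A (mk2 E m c d h) (bc A (mk1 m c) (v0 m))) = _
  simp [v0, xs]

theorem algHom_ext2 (h : ∀ x, ∑ i, c i x • m i = x) {R : Type u} [CommRing R] [Algebra B R]
    {φ ψ : P2 E m c d h →ₐ[B] R}
    (hs : ∀ s, φ (xs E m c d h s) =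
      ψ (xs E m c d h s)) : φ = ψ := by
  refine Ideal.Quotient.algHom_ext _ (Ideal.Quotient.algHom_ext _ (MvPolynomial.algHom_ext fun s => ?_))
  exact hs s

theorem formallySmooth (hE : E.Lifts) (h : ∀ x, ∑ i, c i x • m i = x) {k : Fin q → N}
    (hk : ∀ x, ∑ i, d i x • k i = x) : Algebra.FormallySmooth B (P2 E m c d h) := by
  refine Algebra.FormallySmooth.of_comp_surjective fun R _ _ I hI φ => ?_
  have hx : E.F (R ⧸ I) (ubc A φ (u2 E m c d h)) = 0 := by
    rw [E.nat, F_u2 E m c d h hk, map_zero]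
  obtain ⟨y, hy, hyx⟩ := hE R I hI _ hx
  choose r' hr' using fun s : Fin n ⊕ Fin n => Ideal.Quotient.mk_surjective
    (φ (xs E m c d h s))
  let r : Fin n ⊕ Fin n → R := Sum.elim
    (fun i => r' (Sum.inl i) + coord R (c i) ((y : R ⊗[B] A) - ∑ j, r' (Sum.inl j) ⊗ₜ[B] m j))
    (fun i => r' (Sum.inr i) + coord R (c i) (((y⁻¹ : (R ⊗[B] A)ˣ) : R ⊗[B] A) -
      ∑ j, r' (Sum.inr j) ⊗ₜ[B] m j))
  have h1 : ∑ i, r (Sum.inl i) ⊗ₜ[B] m i = (y : R ⊗[B] A) := by
    simp only [r, Sum.elim_inl, TensorProduct.add_tmul, Finset.sum_add_distrib]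
    rw [sum_coord R h]
    abel
  have h2 : ∑ i, r (Sum.inr i) ⊗ₜ[B] m i = ((y⁻¹ : (R ⊗[B] A)ˣ) : R ⊗[B] A) := by
    simp only [r, Sum.elim_inr, TensorProduct.add_tmul, Finset.sum_add_distrib]
    rw [sum_coord R h]
    abel
  obtain ⟨ψ, hψ⟩ := exists_map2 E m c d h y hy r h1 h2
  refine ⟨ψ, algHom_ext2 E m c d h fun s => ?_⟩
  change Ideal.Quotient.mk I (ψ _) = _
  rw [hψ]
  have key : ∀ (z : R ⊗[B] A) (w : Fin n → R), (∑ i, (Ideal.Quotient.mk I (w i)) ⊗ₜ[B] m i) =
      bc A (Ideal.Quotient.mkₐ B I) z → ∀ i, Ideal.Quotient.mk I (coord R (c i) (z - ∑ j, w j ⊗ₜ[B] m j)) = 0 := by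
    intro z w hw i
    have h3 := coord_map R (Ideal.Quotient.mkₐ B I) (c i) (z - ∑ j, w j ⊗ₜ[B] m j)
    rw [← bc_apply, map_sub, ← hw, map_sum] at h3
    simp only [Algebra.TensorProduct.map_tmul, Ideal.Quotient.mkₐ_eq_mk, AlgHom.coe_id, id_eq,
      sub_self, map_zero] at h3
    exact h3.symm
  rcases s with i | i
  · simp only [r, Sum.elim_inl, map_add]
    rw [key (y : R ⊗[B] A) (fun j => r' (Sum.inl j)) ?_ i, add_zero, hr']
    simp only [hr']
    rw [← ubc_u2, ← hyx]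
    rfl
  · simp only [r, Sum.elim_inr, map_add]
    rw [key ((y⁻¹ : (R ⊗[B] A)ˣ) : R ⊗[B] A) (fun j => r' (Sum.inr j)) ?_ i, add_zero, hr']
    simp only [hr']
    rw [← ubc_u2_inv, ← hyx]
    rfl

theorem finitePresentation (h : ∀ x, ∑ i, c i x • m i = x) :
    Algebra.FinitePresentation B (P2 E m c d h) := by
  have h1 : Algebra.FinitePresentation B (P1 m c) :=
    Algebra.FinitePresentation.quotient ⟨(Set.finite_range _).toFinset, by rw [Set.Finite.coe_toFinset]; rfl⟩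
  exact Algebra.FinitePresentation.quotient ⟨(Set.finite_range _).toFinset, by
    rw [Set.Finite.coe_toFinset]; rfl⟩

end Universal

/-- **Solutions over a smooth surjective algebra.** -/
theorem exists_smooth [Module.Finite B A] [Module.Projective B A] [Module.Finite B N]
    [Module.Projective B N] (hE : E.Lifts) (hP : E.Pts) :
    ∃ (P : Type u) (_ : CommRing P) (_ : Algebra B P), Algebra.Smooth B P ∧
      Function.Surjective (PrimeSpectrum.comap (algebraMap B P)) ∧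
      ∃ x : (P ⊗[B] A)ˣ, E.F P x = 0 := by
  obtain ⟨n, m, c, h⟩ := exists_dualBasis B A
  obtain ⟨q, k, d, hk⟩ := exists_dualBasis B N
  refine ⟨P2 E m c d h, inferInstance, inferInstance,
    ⟨formallySmooth E m c d hE h hk, finitePresentation E m c d h⟩, ?_, u2 E m c d h,
    F_u2 E m c d h hk⟩
  intro p
  let Ω := AlgebraicClosure p.asIdeal.ResidueField
  obtain ⟨x, hx⟩ := hP Ω
  obtain ⟨ψ, -⟩ := exists_map2 E m c d h x hx
    (Sum.elim (fun i => coord Ω (c i) (x : Ω ⊗[B] A)) (fun i => coord Ω (c i) ((x⁻¹ : (Ω ⊗[B] A)ˣ) : Ω ⊗[B] A)))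
    (by simp only [Sum.elim_inl]; exact sum_coord Ω h _)
    (by simp only [Sum.elim_inr]; exact sum_coord Ω h _)
  refine ⟨⟨RingHom.ker ψ.toRingHom, RingHom.ker_isPrime _⟩, ?_⟩
  ext b
  change algebraMap B _ b ∈ RingHom.ker ψ.toRingHom ↔ b ∈ p.asIdeal
  rw [RingHom.mem_ker]
  change ψ (algebraMap B _ b) = 0 ↔ _
  rw [ψ.commutes, IsScalarTower.algebraMap_apply B p.asIdeal.ResidueField Ω,
    map_eq_zero_iff _ (algebraMap p.asIdeal.ResidueField Ω).injective,
    Ideal.algebraMap_residueField_eq_zero]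

end Main

end Groth.Agent.Pic13.H948.UnitSol
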